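import Groth.Agent.Lib.HM15.Core
import Groth.Agent.Lib.PlaceRat28.Curve
import Groth.Agent.Lib.OrbitH28.Stab
import Groth.Agent.Lib.FormSub28.Unstable
import Groth.Agent.S19603

/-!
# The Hilbert–Mumford criterion for linearly reductive groups in characteristic zero
-/

open TensorProduct HopfRep WithConv LaurentPolynomial Groth.Agent.OrbitH28

universe u

noncomputable section

namespace Groth.Agent.HM15

set_option linter.unusedSectionVars false
set_option linter.style.haveILetI false

variable {k : Type u} [Field k] [IsAlgClosed k] [CharZero k] {A : Type u} [CommRing A] [HopfAlgebra k A]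
  [Algebra.FiniteType k A] {ι : Type u} [Fintype ι] [Comod k A (MvPolynomial ι k)]
  [GLin.IsCoactAlg k A (MvPolynomial ι k)]

/-- A limit lies in the closure of the orbit. -/
lemma inOrbitClosure_of_isLimit {R : Type u} [CommRing R] [Algebra k R] [Comod k A R] [GLin.IsCoactAlg k A R]
    {lam : A →ₐc[k] k[T;T⁻¹]} {x y : R →ₐ[k] k} (h : GLin.IsLimit k A lam x y) : GLin.InOrbitClosure k A x y := by
  obtain ⟨h, hh, rfl⟩ := h
  intro f hf
  rw [RingHom.mem_ker] at hf ⊢
  have h1 : h f = 0 := Polynomial.toLaurent_injective (by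
    rw [map_zero]
    refine (AlgHom.congr_fun hh f).trans ?_
    show lam (GLin.orbitHom k A x f) = 0
    rw [hf, map_zero])
  rw [AlgHom.comp_apply, h1, map_zero]

/-- A valued point keeping the orbit map integral is integral on the group once it is so on generators. -/
theorem exists_lam_of_not_isStableVec (hG : IsLinearlyReductive k A) (hlin : GLin.IsLinear k A ι) {v : ι → k}
    (hst : ¬ GLin.IsStableVec k A v) :
    ∃ lam : A →ₐc[k] k[T;T⁻¹], ¬ SGA3t2b.IsTrivialBialgHom lam ∧
      ∀ (i : ι) (n : ℤ), n < 0 → (Comodule.coordOrbit lam v i).coeff n = 0 := by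
  classical
  by_contra hno
  refine hst ⟨(closed_iff_isClosedOrbit _).1 fun z hz => ?_, ?_⟩
  · obtain ⟨K, _, _, V, res, ω, halg, hker, hext⟩ :=
      PlaceRat28.exists_place (GLin.orbitHom k A (GLin.vecPt k ι v)) z hz
    choose hmem hres using hext
    by_cases hV : ∃ a, ω a ∉ V
    · obtain ⟨lam, h1, h2⟩ := exists_lam hG hlin V res halg hker v false ω
        (fun i => ⟨hmem _, fun h => absurd h Bool.false_ne_true⟩) (by simpa using hV)
      exact absurd ⟨lam, h1, fun i n hn => h2 i n (by simpa using hn)⟩ hno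
    · push Not at hV
      let s : A →ₐ[k] k :=
        { toRingHom := res.comp (ω.toRingHom.codRestrict V.toSubring hV)
          commutes' := fun c => by
            refine Eq.trans ?_ (halg c).2
            exact congrArg res (Subtype.ext (ω.commutes c)) }
      refine ⟨toConv s, AlgHom.ext fun f => ?_⟩
      rw [mv_apply]
      show res (ω.toRingHom.codRestrict V.toSubring hV (GLin.orbitHom k A _ f)) = z f
      rw [← hres f]
      rfl
  · set I := GLin.stabIdeal k A (GLin.vecPt k ι v)
    haveI : Algebra.FiniteType k (A ⧸ I) :=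
      Algebra.FiniteType.of_surjective (Ideal.Quotient.mkₐ k I) Ideal.Quotient.mk_surjective
    haveI : Algebra.IsIntegral k (A ⧸ I) := ⟨fun z => by
      by_contra hz
      obtain ⟨K, _, _, V, res, ω, halg, hker, hout⟩ := PlaceRat28.exists_escape hz
      obtain ⟨a, rfl⟩ := Ideal.Quotient.mk_surjective z
      have hfix : ∀ i, (ω.comp (Ideal.Quotient.mkₐ k I))
          (GLin.orbitHom k A (GLin.vecPt k ι v) (MvPolynomial.X i)) = algebraMap k K (v i) := fun i => by
        have hmem : MvPolynomial.X i - algebraMap k (MvPolynomial ι k) (v i) ∈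
            RingHom.ker (GLin.vecPt k ι v) := by simp [RingHom.mem_ker]
        have h0 : Ideal.Quotient.mkₐ k I (GLin.orbitHom k A (GLin.vecPt k ι v)
            (MvPolynomial.X i - algebraMap k (MvPolynomial ι k) (v i))) = 0 :=
          Ideal.Quotient.eq_zero_iff_mem.2 (Ideal.mem_map_of_mem _ hmem)
        rw [map_sub, AlgHom.commutes, map_sub, AlgHom.commutes, sub_eq_zero] at h0
        rw [AlgHom.comp_apply, h0, AlgHom.commutes]
      obtain ⟨lam, h1, h2⟩ := exists_lam hG hlin V res halg hker v false (ω.comp (Ideal.Quotient.mkₐ k I))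
        (fun i => ⟨(hfix i).symm ▸ (halg _).1, fun h => absurd h Bool.false_ne_true⟩)
        (by rw [if_neg Bool.false_ne_true]; exact ⟨a, hout⟩)
      exact hno ⟨lam, h1, fun i n hn => h2 i n (by simpa using hn)⟩⟩
    show Module.Finite k (A ⧸ I)
    exact Algebra.IsIntegral.finite

/-- A nullform has a one-parameter subgroup moving it to the origin. -/
theorem exists_lam_of_isNullform (hG : IsLinearlyReductive k A) (hlin : GLin.IsLinear k A ι) {v : ι → k}
    (hv : v ≠ 0) (hnull : GLin.IsNullform k A v) :
    ∃ lam : A →ₐc[k] k[T;T⁻¹], ∀ (i : ι) (n : ℤ), n ≤ 0 → (Comodule.coordOrbit lam v i).coeff n = 0 := by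
  have hcl : GLin.InOrbitClosure k A (GLin.vecPt k ι v) (GLin.vecPt k ι fun _ => (0 : k)) :=
    Classical.byContradiction fun h => (S19603.result k A hG ι hlin v).2 h hnull
  obtain ⟨K, _, _, V, res, ω, halg, hker, hext⟩ := PlaceRat28.exists_place _ _ hcl
  obtain ⟨lam, -, h2⟩ := exists_lam hG hlin V res halg hker v true ω (fun i => by
    obtain ⟨h, h'⟩ := hext (MvPolynomial.X i)
    exact ⟨h, fun _ => h'.trans (by simp)⟩) (by simpa using hv)
  exact ⟨lam, fun i n hn => h2 i n (by simpa using hn)⟩

/-- A stable vector has no limit along a non-trivial one-parameter subgroup. -/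
theorem not_hasLimit_of_isStableVec {v : ι → k} (hst : GLin.IsStableVec k A v) {lam : A →ₐc[k] k[T;T⁻¹]}
    (hlam : ¬ SGA3t2b.IsTrivialBialgHom lam) : ¬ GLin.HasLimit k A lam (GLin.vecPt k ι v) := by
  classical
  rintro ⟨h, hh⟩
  obtain ⟨hclosed, hfin⟩ := hst
  set x := GLin.vecPt k ι v
  set y := (Polynomial.aeval (0 : k)).comp h
  obtain ⟨g, hg⟩ := (closed_iff_isClosedOrbit x).2 hclosed y (inOrbitClosure_of_isLimit ⟨h, hh, rfl⟩)
  have hfiny : FinStab A y := hg ▸ (FormSub28.finStab_of_hasFiniteStab hfin).mv g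
  let γ : kˣ → Pts k A := fun s => toConv ((evL s).comp (lam : A →ₐ[k] k[T;T⁻¹]))
  have hγmul : ∀ s t, γ s * γ t = γ (s * t) := by
    intro s t
    refine WithConv.ofConv_injective (AlgHom.ext fun a => ?_)
    rw [AlgHom.convMul_apply]
    show _ = evL (s * t) (lam a)
    have key : ∀ q : k[T;T⁻¹], Algebra.TensorProduct.lift (evL s) (evL t) (fun _ _ => Commute.all _ _)
        (CoalgebraStruct.comul (R := k) q) = evL (s * t) q := by
      intro q
      induction q using LaurentPolynomial.induction_on' with
      | add p q hp hq => rw [map_add, map_add, hp, hq, map_add]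
      | C_mul_T n c =>
        rw [show (LaurentPolynomial.C c : k[T;T⁻¹]) = algebraMap k _ c from rfl, Bialgebra.comul_mul,
          Bialgebra.comul_algebraMap, comul_T, map_mul, AlgHom.commutes, map_mul, AlgHom.commutes,
          Algebra.TensorProduct.lift_tmul, evL_T, evL_T, evL_T, mul_zpow, Units.val_mul]
    rw [← key, ← CoalgHomClass.map_comp_comul_apply lam a]
    generalize CoalgebraStruct.comul (R := k) a = z
    induction z with
    | zero => simp
    | tmul p q => simp [γ]
    | add p q hp hq => simp only [map_add, hp, hq]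
  have hpoly : ∀ (t : k) (ht : t ≠ 0) f, mv (γ (Units.mk0 t ht)) x f = (h f).eval t := by
    intro t ht f
    rw [mv_apply]
    show evL _ (lam (GLin.orbitHom k A x f)) = _
    rw [show lam (GLin.orbitHom k A x f) = Polynomial.toLaurent (h f) from (AlgHom.congr_fun hh f).symm]
    exact LaurentPolynomial.eval₂_toLaurent (RingHom.id k) (Units.mk0 t ht) (h f)
  have hfix : ∀ s : kˣ, mv (γ s) y = y := by
    intro s
    refine AlgHom.ext fun f => ?_
    set f' := Comod.act k A (MvPolynomial ι k) (γ s).ofConv f
    have e1 : mv (γ s) y f = y f' := by rw [mv_apply, act_apply]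
    rw [e1]
    have hq : h f' = (h f).comp (Polynomial.C (s : k) * Polynomial.X) := by
      refine sub_eq_zero.1 (Polynomial.eq_zero_of_infinite_isRoot _
        (Set.Infinite.mono (s := {t : k | t ≠ 0}) (fun t ht => ?_) (Set.finite_singleton (0 : k)).infinite_compl))
      show Polynomial.eval t _ = 0
      rw [Polynomial.eval_sub, Polynomial.eval_comp, sub_eq_zero]
      simp only [Polynomial.eval_mul, Polynomial.eval_C, Polynomial.eval_X]
      rw [← hpoly t ht f', ← hpoly ((s : k) * t) (mul_ne_zero s.ne_zero ht) f,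
        show Units.mk0 ((s : k) * t) (mul_ne_zero s.ne_zero ht) = Units.mk0 t ht * s from Units.ext (mul_comm _ _),
        ← hγmul, ← mv_mv, mv_apply (γ s) (mv (γ (Units.mk0 t ht)) x) f, act_apply]
    show Polynomial.aeval (0 : k) (h f') = Polynomial.aeval (0 : k) (h f)
    rw [hq, Polynomial.coe_aeval_eq_eval, Polynomial.eval_comp]
    simp
  obtain ⟨a, ha⟩ : ∃ a, lam a ≠ algebraMap k k[T;T⁻¹] (CoalgebraStruct.counit (R := k) a) := by
    by_contra! hc
    exact hlam hc
  -- finitely many values force a constant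
  have hrange : (Set.range fun s : kˣ => evL s (lam a)).Finite :=
    ((show ({g : Pts k A | mv g y = y}).Finite from hfiny).image fun g => g.ofConv a).subset fun c ⟨s, hs⟩ =>
      ⟨γ s, hfix s, hs⟩
  obtain ⟨c, hc⟩ : ∃ c, ∀ s : kˣ, evL s (lam a) = c := by
    obtain ⟨n, f, hf⟩ := (lam a).exists_T_pow
    obtain ⟨c, hc⟩ : ∃ c, {t : k | t ≠ 0 ∧ f.eval t = c * t ^ n}.Infinite := by
      by_contra! hall
      refine (Set.finite_singleton (0 : k)).infinite_compl ((hrange.biUnion fun c _ => hall c).subset ?_)
      intro t ht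
      simp only [Set.mem_iUnion]
      refine ⟨evL (Units.mk0 t ht) (lam a), ⟨_, rfl⟩, ht, ?_⟩
      have := congrArg (evL (Units.mk0 t ht)) hf
      rw [map_mul, evL_T] at this
      refine Eq.trans (LaurentPolynomial.eval₂_toLaurent (RingHom.id k) (Units.mk0 t ht) f).symm (this.trans ?_)
      simp
    have hfc : f = Polynomial.C c * Polynomial.X ^ n := by
      refine sub_eq_zero.1 (Polynomial.eq_zero_of_infinite_isRoot _ (hc.mono fun t ht => ?_))
      show Polynomial.eval t _ = 0
      simp [ht.2]
    refine ⟨c, fun s => ?_⟩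
    have := congrArg (evL s) hf
    rw [hfc, map_mul (evL s), map_mul, map_mul, evL_T] at this
    refine mul_right_cancel₀ (Units.ne_zero (s ^ (n : ℤ))) (this.symm.trans ?_)
    simp [Polynomial.toLaurent_C, evL_C, evL_T, Polynomial.toLaurent_X_pow]
  refine ha (sub_eq_zero.1 (eq_zero_of_evL fun s => ?_))
  rw [map_sub, AlgHom.commutes, hc, sub_eq_zero, ← hc 1]
  have h1 : γ 1 = 1 := mul_left_cancel (a := γ 1) (by rw [hγmul, mul_one, mul_one])
  have := congrArg (fun g : Pts k A => g.ofConv a) h1
  simp only [AlgHom.convOne_apply] at this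
  exact this

end Groth.Agent.HM15
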