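import Groth.Agent.Lib.HM15.Pts
import Groth.Agent.Lib.HopfGL23.Basic

/-!
# A closed embedding in the general linear group adapted to a linear action
-/

open TensorProduct HopfRep WithConv CoordGrp

universe u v

noncomputable section

namespace Groth.Agent.HM15

set_option linter.unusedSectionVars false
set_option linter.style.haveILetI false

variable {k : Type u} [Field k] {A : Type u} [CommRing A] [HopfAlgebra k A]
  {ι : Type v} [Fintype ι] [Comod k A (MvPolynomial ι k)] [GLin.IsCoactAlg k A (MvPolynomial ι k)]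

lemma exists_coeff_matrix (hlin : GLin.IsLinear k A ι) [DecidableEq ι] :
    ∃ M : Matrix ι ι A,
      (∀ i j, CoalgebraStruct.comul (R := k) (M i j) = ∑ l, M i l ⊗ₜ[k] M l j) ∧
      (∀ i j, CoalgebraStruct.counit (R := k) (M i j) = if i = j then (1 : k) else 0) ∧
      ∀ (v : ι → k) i, GLin.orbitHom k A (GLin.vecPt k ι v) (MvPolynomial.X i) = ∑ l, v l • M l i := by
  choose m hm using hlin
  let φ : ι → MvPolynomial ι k →ₗ[k] k := fun l => MvPolynomial.lcoeff k (Finsupp.single l 1)
  have hφ : ∀ l j, φ l (MvPolynomial.X j) = if j = l then 1 else 0 := fun l j => by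
    simp [φ, MvPolynomial.lcoeff_apply, MvPolynomial.coeff_X', Finsupp.single_left_inj one_ne_zero]
  refine ⟨Matrix.of fun i j => m j i, fun i j => ?_, fun i j => ?_, fun v i => ?_⟩
  · have h := congrArg (PsRefl28.slice (φ i)) (LinearMap.congr_fun (Comod.coassoc (k := k) (A := A)
      (V := MvPolynomial ι k)) (MvPolynomial.X j))
    simp only [LinearMap.comp_apply, hm, map_sum, LinearMap.rTensor_tmul, LinearMap.lTensor_tmul,
      TensorProduct.sum_tmul, LinearEquiv.coe_coe, TensorProduct.assoc_tmul, PsRefl28.slice_tmul, hφ, ite_smul,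
      one_smul, zero_smul] at h
    simp only [Finset.sum_ite_eq', Finset.mem_univ, if_true] at h
    exact h.symm
  · have h := congrArg (fun z => φ i (TensorProduct.rid k _ z)) (LinearMap.congr_fun (Comod.counit_comp (k := k) (A := A)
      (V := MvPolynomial ι k)) (MvPolynomial.X j))
    simp only [LinearMap.comp_apply, hm, map_sum, LinearMap.lTensor_tmul, TensorProduct.rid_tmul, map_smul,
      LinearMap.flip_apply, TensorProduct.mk_apply, smul_eq_mul, hφ, one_smul, mul_ite, mul_one, mul_zero,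
      Finset.sum_ite_eq', Finset.mem_univ, if_true, one_mul] at h
    rw [Matrix.of_apply, h]
    simp [eq_comm]
  · rw [Comodule.orbitHom_apply, hm]
    simp

/-- A closed embedding in `GL_N` such that the representation is on some of the coordinates. -/
theorem exists_embedding [Algebra.FiniteType k A] (hlin : GLin.IsLinear k A ι) :
    ∃ (N : ℕ) (π : GLn N k →ₐc[k] A) (e : ι → Fin N), Function.Surjective π ∧ Function.Injective e ∧
      ∀ v : ι → k, (∀ i, GLin.orbitHom k A (GLin.vecPt k ι v) (MvPolynomial.X i) =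
          ∑ l, Function.extend e v 0 l • π (GLn.X l (e i))) ∧
        ∀ j, (∀ i, e i ≠ j) → ∑ l, Function.extend e v 0 l • π (GLn.X l j) = 0 := by
  classical
  obtain ⟨M, hM, hMε, hMv⟩ := exists_coeff_matrix hlin
  obtain ⟨n, π₀, hπ₀⟩ := HopfGL23.exists_surjective (k := k) (A := A)
  let E := Fintype.equivFin (Fin n ⊕ ι)
  let c₀ : Matrix (Fin n ⊕ ι) (Fin n ⊕ ι) A :=
    Matrix.fromBlocks (Matrix.of fun i j => π₀ (GLn.X i j)) 0 0 M
  have hπX : ∀ i j, CoalgebraStruct.comul (R := k) (π₀ (GLn.X i j)) =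
      ∑ l, π₀ (GLn.X i l) ⊗ₜ[k] π₀ (GLn.X l j) := fun i j => by
    rw [← CoalgHomClass.map_comp_comul_apply π₀, GLn.comul_X, map_sum]
    rfl
  have hc₀ : ∀ i j, CoalgebraStruct.comul (R := k) (c₀ i j) = ∑ l, c₀ i l ⊗ₜ[k] c₀ l j := by
    rintro (i | i) (j | j) <;> simp [c₀, Fintype.sum_sum_type, hπX, hM]
  have hε₀ : ∀ i j, CoalgebraStruct.counit (R := k) (c₀ i j) = if i = j then (1 : k) else 0 := by
    rintro (i | i) (j | j) <;> simp [c₀, hMε]
    rw [GLn.counit_X]
  let c := c₀.submatrix E.symm E.symm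
  obtain ⟨π, hπ⟩ := HopfGL23.exists_hom (k := k) c (fun i j => by
    simp only [c, Matrix.submatrix_apply, hc₀]
    exact (Equiv.sum_comp E.symm fun l => c₀ (E.symm i) l ⊗ₜ[k] c₀ l (E.symm j)).symm) (fun i j => by
    simp only [c, Matrix.submatrix_apply, hε₀, EmbeddingLike.apply_eq_iff_eq])
  have hπ' : ∀ a b, π (GLn.X (E a) (E b)) = c₀ a b := fun a b => by simp [hπ, c]
  refine ⟨_, π, fun i => E (Sum.inr i), ?_, E.injective.comp Sum.inr_injective, fun v => ?_⟩
  · intro a
    let S := AlgHom.range (π : GLn (Fintype.card (Fin n ⊕ ι)) k →ₐ[k] A)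
    have hX₀ : ∀ i j, π₀ (GLn.X i j) ∈ S := fun i j => ⟨GLn.X (E (.inl i)) (E (.inl j)), hπ' _ _⟩
    have hMS : ∀ i j, M i j ∈ S := fun i j => ⟨GLn.X (E (.inr i)) (E (.inr j)), hπ' _ _⟩
    have hdetM : M.det ∈ S := by
      rw [Matrix.det_apply]
      exact sum_mem fun σ _ => zsmul_mem (prod_mem fun i _ => hMS _ _) _
    have hD : π₀ GLn.Dinv ∈ S := by
      have hdet : (π : GLn (Fintype.card (Fin n ⊕ ι)) k →ₐ[k] A) GLn.det = π₀ GLn.det * M.det := by
        rw [← det_mtx, show mtx (π : GLn (Fintype.card (Fin n ⊕ ι)) k →ₐ[k] A) = c from Matrix.ext fun i j => hπ i j]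
        simp only [c, Matrix.det_submatrix_equiv_self, c₀, Matrix.det_fromBlocks_zero₂₁]
        congr 1
        exact det_mtx (π₀ : GLn n k →ₐ[k] A)
      have h1 : π₀ GLn.Dinv = π GLn.Dinv * M.det := by
        have e1 : π₀ GLn.Dinv * π₀ GLn.det = 1 := by rw [← map_mul, GLn.Dinv_mul_det, map_one]
        have e2 : π GLn.Dinv * (π₀ GLn.det * M.det) = 1 := by
          rw [← hdet]
          show π GLn.Dinv * π GLn.det = 1
          rw [← map_mul, GLn.Dinv_mul_det, map_one]
        exact left_inv_eq_right_inv e1 (by rw [← e2]; ring)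
      rw [h1]
      exact mul_mem ⟨_, rfl⟩ hdetM
    obtain ⟨f, rfl⟩ := hπ₀ a
    have hf : π₀ f ∈ S := by
      induction f using gln_induction with
      | hC r => rw [show π₀ (algebraMap k _ r) = algebraMap k A r from (π₀ : GLn n k →ₐ[k] A).commutes r]; exact S.algebraMap_mem r
      | hadd a b ha hb => rw [map_add]; exact add_mem ha hb
      | hX a i j ha => rw [map_mul]; exact mul_mem ha (hX₀ i j)
      | hD a ha => rw [map_mul]; exact mul_mem ha hD
    exact (AlgHom.mem_range _).1 hf
  · have hext : ∀ l, Function.extend (fun i => E (Sum.inr i)) v 0 (E l) = Sum.elim (fun _ : Fin n => (0 : k)) v l := by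
      rintro (l | l)
      · rw [Function.extend_apply' _ _ _ (by rintro ⟨i, hi⟩; exact absurd (E.injective hi) (by simp))]
        rfl
      · exact (E.injective.comp Sum.inr_injective).extend_apply _ _ l
    have hs : ∀ j, ∑ l, Function.extend (fun i => E (Sum.inr i)) v 0 l • π (GLn.X l (E j)) =
        Sum.elim (fun _ => (0 : A)) (fun i => ∑ l, v l • M l i) j := fun j => by
      rw [← Equiv.sum_comp E, Fintype.sum_sum_type]
      cases j <;> simp [hext, hπ', c₀]
    refine ⟨fun i => by rw [hMv, hs]; rfl, fun j hj => ?_⟩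
    obtain ⟨j, rfl⟩ := E.surjective j
    rw [hs]
    cases j with
    | inl j => rfl
    | inr j => exact absurd rfl (hj j)

end Groth.Agent.HM15
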