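import Mathlib.Algebra.Order.BigOperators.Group.Finset
import Mathlib.Algebra.Order.Ring.Int
import Mathlib.Algebra.Module.Basic
import Mathlib.Data.Fin.Tuple.Basic
import Mathlib.Algebra.BigOperators.Fin
import Mathlib.Tactic.LinearCombination
import Mathlib.Tactic.Ring
import Mathlib.Algebra.BigOperators.GroupWithZero.Action
import Mathlib.Algebra.Order.Ring.Abs

/-!
# Integral solutions of linear inequalities solvable in an ordered abelian group
-/

universe u

namespace Groth.Agent.HM15

variable {Γ : Type u} [AddCommGroup Γ] [LinearOrder Γ] [IsOrderedAddMonoid Γ]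

/-- A constraint `0 ≤ ∑ cᵢ xᵢ`, strict when flagged. -/
def Holds {G : Type*} [AddCommGroup G] [Preorder G] {N : ℕ} (x : Fin N → G) (c : (Fin N → ℤ) × Bool) : Prop :=
  if c.2 then 0 < ∑ i, c.1 i • x i else 0 ≤ ∑ i, c.1 i • x i

/-- One unknown: bounds can be met by an integer when the lower bounds are below the upper bounds. -/
lemma exists_between_bounds (L U : Finset (ℤ × Bool)) (hev : ∀ p ∈ L ∪ U, 2 ∣ p.1)
    (h : ∀ p ∈ L, ∀ q ∈ U, if p.2 || q.2 then p.1 < q.1 else p.1 ≤ q.1) :
    ∃ x : ℤ, (∀ p ∈ L, if p.2 then p.1 < x else p.1 ≤ x) ∧ ∀ q ∈ U, if q.2 then x < q.1 else x ≤ q.1 := by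
  classical
  rcases L.eq_empty_or_nonempty with rfl | hL
  · rcases U.eq_empty_or_nonempty with rfl | hU
    · exact ⟨0, by simp, by simp⟩
    · obtain ⟨q₀, hq₀, hmin⟩ := U.exists_min_image Prod.fst hU
      refine ⟨q₀.1 - 1, by simp, fun q hq => ?_⟩
      have := hmin q hq
      split_ifs <;> omega
  obtain ⟨p₀, hp₀, hmax⟩ := L.exists_max_image Prod.fst hL
  rcases U.eq_empty_or_nonempty with rfl | hU
  · refine ⟨p₀.1 + 1, fun p hp => ?_, by simp⟩
    have := hmax p hp
    split_ifs <;> omega
  obtain ⟨q₀, hq₀, hmin⟩ := U.exists_min_image Prod.fst hU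
  obtain ⟨a, ha⟩ := hev p₀ (Finset.mem_union_left _ hp₀)
  obtain ⟨b, hb⟩ := hev q₀ (Finset.mem_union_right _ hq₀)
  refine ⟨a + b, fun p hp => ?_, fun q hq => ?_⟩
  · have h1 := h p hp q₀ hq₀
    have h2 := hmax p hp
    have h3 := h p₀ hp₀ q₀ hq₀
    cases hp2 : p.2 <;> cases hq2 : q₀.2 <;> cases hp02 : p₀.2 <;> simp_all <;> omega
  · have h1 := h p₀ hp₀ q hq
    have h2 := hmin q hq
    have h3 := h p₀ hp₀ q₀ hq₀
    cases hp2 : q.2 <;> cases hq2 : q₀.2 <;> cases hp02 : p₀.2 <;> simp_all <;> omega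

/-- Fourier–Motzkin elimination. -/
theorem exists_int_solution {N : ℕ} (S : Finset ((Fin N → ℤ) × Bool)) (e : Fin N → Γ) (h : ∀ c ∈ S, Holds e c) :
    ∃ l : Fin N → ℤ, ∀ c ∈ S, Holds l c := by
  classical
  induction N with
  | zero =>
    refine ⟨fun i => i.elim0, fun c hc => ?_⟩
    have := h c hc
    simp only [Holds, Finset.univ_eq_empty, Finset.sum_empty] at this ⊢
    split_ifs at this ⊢ <;> simp_all
  | succ N ih =>
    let a : (Fin (N + 1) → ℤ) × Bool → ℤ := fun c => c.1 0
    let rest : (Fin (N + 1) → ℤ) × Bool → Fin N → ℤ := fun c i => c.1 i.succ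
    let P := S.filter fun c => 0 < a c
    let M := S.filter fun c => a c < 0
    let Z := S.filter fun c => a c = 0
    let S' : Finset ((Fin N → ℤ) × Bool) := Z.image (fun c => (rest c, c.2)) ∪
      (P ×ˢ M).image fun pq => (fun i => -a pq.2 * rest pq.1 i + a pq.1 * rest pq.2 i, pq.1.2 || pq.2.2)
    have hsum : ∀ (c : (Fin (N + 1) → ℤ) × Bool) {G : Type u} [AddCommGroup G] (x : Fin (N + 1) → G),
        ∑ i, c.1 i • x i = a c • x 0 + ∑ i : Fin N, rest c i • x i.succ := fun c G _ x =>
      Fin.sum_univ_succ _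
    obtain ⟨y, hy⟩ := ih S' (fun i => e i.succ) (by
      intro c hc
      rcases Finset.mem_union.1 hc with hc | hc
      · obtain ⟨d, hd, rfl⟩ := Finset.mem_image.1 hc
        have := h d (Finset.mem_filter.1 hd).1
        simp only [Holds, hsum d e, (Finset.mem_filter.1 hd).2, zero_smul, zero_add] at this
        exact this
      · obtain ⟨⟨p, q⟩, hpq, rfl⟩ := Finset.mem_image.1 hc
        obtain ⟨hp, hq⟩ := Finset.mem_product.1 hpq
        have h1 := h p (Finset.mem_filter.1 hp).1
        have h2 := h q (Finset.mem_filter.1 hq).1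
        have ha : 0 < a p := (Finset.mem_filter.1 hp).2
        have hb : 0 < -a q := neg_pos.2 (Finset.mem_filter.1 hq).2
        simp only [Holds, hsum p e] at h1
        simp only [Holds, hsum q e] at h2
        have hS : ∑ i : Fin N, (-a q * rest p i + a p * rest q i) • e i.succ =
            -a q • (a p • e 0 + ∑ i : Fin N, rest p i • e i.succ) +
              a p • (a q • e 0 + ∑ i : Fin N, rest q i • e i.succ) := by
          simp only [smul_add, add_smul, Finset.smul_sum, mul_smul, Finset.sum_add_distrib]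
          simp only [← mul_smul]
          rw [add_add_add_comm, ← add_smul, show -a q * a p + a p * a q = 0 by ring, zero_smul, zero_add]
        simp only [Holds]
        rw [hS]
        cases hp2 : p.2 <;> cases hq2 : q.2 <;> simp only [hp2, hq2, if_true, if_false, Bool.false_eq_true,
          Bool.or_self, Bool.or_false, Bool.false_or] at h1 h2 ⊢
        · exact add_nonneg (zsmul_nonneg h1 hb.le) (zsmul_nonneg h2 ha.le)
        · exact add_pos_of_nonneg_of_pos (zsmul_nonneg h1 hb.le) (zsmul_pos h2 ha)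
        · exact add_pos_of_pos_of_nonneg (zsmul_pos h1 hb) (zsmul_nonneg h2 ha.le)
        · exact add_pos (zsmul_pos h1 hb) (zsmul_pos h2 ha))
    let D : ℤ := ∏ c ∈ S.filter (fun c => a c ≠ 0), a c
    have hD : D ≠ 0 := Finset.prod_ne_zero_iff.2 fun c hc => (Finset.mem_filter.1 hc).2
    let K : ℤ := 2 * |D|
    have hK : 0 < K := by simp [K, hD]
    have hdvd : ∀ c ∈ S, a c ≠ 0 → ∃ m, K = a c * (2 * m) := fun c hc h0 => by
      obtain ⟨m, hm⟩ := (dvd_abs _ _).2 (Finset.dvd_prod_of_mem a (Finset.mem_filter.2 ⟨hc, h0⟩) : a c ∣ D)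
      exact ⟨m, by simp only [K]; rw [hm]; ring⟩
    let T : (Fin (N + 1) → ℤ) × Bool → ℤ := fun c => ∑ i : Fin N, rest c i * y i
    let bnd : (Fin (N + 1) → ℤ) × Bool → ℤ × Bool := fun c => (-(K * T c) / a c, c.2)
    have hbnd : ∀ c ∈ S, a c ≠ 0 → a c * (bnd c).1 = -(K * T c) ∧ 2 ∣ (bnd c).1 := fun c hc h0 => by
      obtain ⟨m, hm⟩ := hdvd c hc h0
      have e1 : (bnd c).1 = -(2 * m * T c) := by
        show -(K * T c) / a c = _
        rw [hm, show -(a c * (2 * m) * T c) = a c * -(2 * m * T c) by ring, Int.mul_ediv_cancel_left _ h0]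
      exact ⟨by rw [e1, hm]; ring, ⟨-(m * T c), by rw [e1]; ring⟩⟩
    obtain ⟨x, hx1, hx2⟩ := exists_between_bounds (P.image bnd) (M.image bnd) (by
      intro p hp
      rcases Finset.mem_union.1 hp with hp | hp <;> obtain ⟨c, hc, rfl⟩ := Finset.mem_image.1 hp
      · exact (hbnd c (Finset.mem_filter.1 hc).1 (Finset.mem_filter.1 hc).2.ne').2
      · exact (hbnd c (Finset.mem_filter.1 hc).1 (Finset.mem_filter.1 hc).2.ne).2) (by
      intro p hp q hq
      obtain ⟨c, hc, rfl⟩ := Finset.mem_image.1 hp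
      obtain ⟨d, hd, rfl⟩ := Finset.mem_image.1 hq
      have ha := (Finset.mem_filter.1 hc).2
      have hb := (Finset.mem_filter.1 hd).2
      have e1 := (hbnd c (Finset.mem_filter.1 hc).1 ha.ne').1
      have e2 := (hbnd d (Finset.mem_filter.1 hd).1 hb.ne).1
      have := hy (fun i => -a d * rest c i + a c * rest d i, c.2 || d.2)
        (Finset.mem_union_right _ (Finset.mem_image.2 ⟨(c, d), Finset.mem_product.2 ⟨hc, hd⟩, rfl⟩))
      have hT : ∑ i : Fin N, (-a d * rest c i + a c * rest d i) • y i = -a d * T c + a c * T d := by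
        simp only [T, smul_eq_mul, Finset.mul_sum, ← Finset.sum_add_distrib]
        exact Finset.sum_congr rfl fun i _ => by ring
      simp only [Holds, hT] at this
      have e3 : a c * -a d * ((bnd d).1 - (bnd c).1) = K * (-a d * T c + a c * T d) := by
        linear_combination (a d) * e1 - (a c) * e2
      have hpos : 0 < a c * -a d := mul_pos ha (neg_pos.2 hb)
      show (if c.2 || d.2 then (bnd c).1 < (bnd d).1 else (bnd c).1 ≤ (bnd d).1)
      cases hcd : (c.2 || d.2) <;> simp only [hcd, if_true, if_false, Bool.false_eq_true] at this ⊢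
      · have := mul_nonneg hK.le this
        rw [← e3] at this
        have := nonneg_of_mul_nonneg_right this hpos
        omega
      · have := mul_pos hK this
        rw [← e3] at this
        have := pos_of_mul_pos_right this hpos.le
        omega)
    refine ⟨Fin.cons x fun i => K * y i, fun c hc => ?_⟩
    have hc' : ∑ i, c.1 i • (Fin.cons x fun i => K * y i : Fin (N + 1) → ℤ) i = a c * x + K * T c := by
      rw [Fin.sum_univ_succ]
      simp only [Fin.cons_zero, Fin.cons_succ, smul_eq_mul, T, Finset.mul_sum]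
      exact congrArg₂ (· + ·) rfl (Finset.sum_congr rfl fun i _ => mul_left_comm _ _ _)
    simp only [Holds, hc']
    rcases lt_trichotomy (a c) 0 with h0 | h0 | h0
    · have e1 := (hbnd c hc h0.ne).1
      have := hx2 (bnd c) (Finset.mem_image_of_mem _ (Finset.mem_filter.2 ⟨hc, h0⟩))
      rw [show K * T c = -(a c * (bnd c).1) by rw [e1, neg_neg], ← sub_eq_add_neg, ← mul_sub]
      simp only [bnd] at this ⊢
      split_ifs at this ⊢ with hs
      · exact mul_pos_of_neg_of_neg h0 (sub_neg.2 this)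
      · exact mul_nonneg_of_nonpos_of_nonpos h0.le (sub_nonpos.2 this)
    · rw [h0, zero_mul, zero_add]
      have := hy (rest c, c.2) (Finset.mem_union_left _ (Finset.mem_image.2
        ⟨c, Finset.mem_filter.2 ⟨hc, h0⟩, rfl⟩))
      simp only [Holds, smul_eq_mul] at this
      split_ifs at this ⊢ with hs
      · exact mul_pos hK this
      · exact mul_nonneg hK.le this
    · have e1 := (hbnd c hc h0.ne').1
      have := hx1 (bnd c) (Finset.mem_image_of_mem _ (Finset.mem_filter.2 ⟨hc, h0⟩))
      rw [show K * T c = -(a c * (bnd c).1) by rw [e1, neg_neg], ← sub_eq_add_neg, ← mul_sub]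
      simp only [bnd] at this ⊢
      split_ifs at this ⊢ with hs
      · exact mul_pos h0 (sub_pos.2 this)
      · exact mul_nonneg h0.le (sub_nonneg.2 this)

end Groth.Agent.HM15
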