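import Groth.Agent.Lib.HM15.Pts
import Mathlib.Algebra.MonoidAlgebra.Basic

/-!
# Weight components of invariant functions for left translations by the diagonal torus
-/

open TensorProduct HopfRep WithConv CoordGrp

universe u

noncomputable section

namespace Groth.Agent.HM15

set_option linter.unusedSectionVars false
set_option linter.style.haveILetI false

attribute [local instance] finiteType_GLn'

variable {k : Type u} [Field k] {N : ℕ} {R S : Type u} [CommRing R] [Algebra k R] [CommRing S] [Algebra k S]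

/-- Row `i` scaled by the `i`-th universal character. -/
def uMat (M : Matrix (Fin N) (Fin N) R) : Matrix (Fin N) (Fin N) (AddMonoidAlgebra R (Fin N → ℤ)) :=
  Matrix.diagonal (fun i => AddMonoidAlgebra.single (Pi.single i 1) (1 : R)) * M.map AddMonoidAlgebra.singleZeroRingHom

lemma uMat_apply (M : Matrix (Fin N) (Fin N) R) (i j : Fin N) :
    uMat M i j = AddMonoidAlgebra.single (Pi.single i 1) (M i j) := by
  simp [uMat, Matrix.diagonal_mul, AddMonoidAlgebra.single_mul_single]

lemma isUnit_det_uMat {M : Matrix (Fin N) (Fin N) R} (h : IsUnit M.det) : IsUnit (uMat M).det := by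
  rw [uMat, Matrix.det_mul, Matrix.det_diagonal, ← RingHom.mapMatrix_apply, ← RingHom.map_det]
  refine IsUnit.mul (IsUnit.prod_iff.2 fun i _ => ?_) (h.map _)
  exact IsUnit.of_mul_eq_one (AddMonoidAlgebra.single (-Pi.single i 1) 1)
    (by simp [AddMonoidAlgebra.single_mul_single, AddMonoidAlgebra.one_def])

/-- A point translated by the universal torus point. -/
def uPt (x : GLn N k →ₐ[k] R) : GLn N k →ₐ[k] AddMonoidAlgebra R (Fin N → ℤ) :=
  ptu (uMat (mtx x)) (isUnit_det_uMat (isUnit_det_mtx x))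

lemma uPt_comp (φ : R →ₐ[k] S) (x : GLn N k →ₐ[k] R) :
    uPt (φ.comp x) = (AddMonoidAlgebra.mapAlgHom (Fin N → ℤ) φ).comp (uPt x) := by
  refine ext_mtx (Matrix.ext fun i j => ?_)
  simp [uPt, uMat_apply]

/-- The weight component. -/
def piece (n : Fin N → ℤ) (f : GLn N k) : GLn N k := (uPt (AlgHom.id k (GLn N k)) f).coeff n

lemma apply_piece (x : GLn N k →ₐ[k] R) (n : Fin N → ℤ) (f : GLn N k) :
    x (piece n f) = (uPt x f).coeff n := by
  conv_rhs => rw [← AlgHom.comp_id x, uPt_comp, AlgHom.comp_apply, AddMonoidAlgebra.coeff_mapAlgHom]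
  rfl

/-- A character. -/
def chi (δ : Fin N → Rˣ) (n : Fin N → ℤ) : Rˣ := ∏ i, δ i ^ n i

lemma chi_add (δ : Fin N → Rˣ) (n n' : Fin N → ℤ) : chi δ (n + n') = chi δ n * chi δ n' := by
  simp [chi, ← Finset.prod_mul_distrib, zpow_add]

lemma chi_zero (δ : Fin N → Rˣ) : chi δ 0 = 1 := by simp [chi]

lemma chi_single (δ : Fin N → Rˣ) (i : Fin N) : chi δ (Pi.single i 1) = δ i := by
  rw [chi, Finset.prod_eq_single i (fun j _ hj => by simp [hj]) (by simp)]
  simp

/-- The characters as a monoid homomorphism. -/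
def chiHom (δ : Fin N → Rˣ) : Multiplicative (Fin N → ℤ) →* R where
  toFun n := (chi δ n.toAdd : R)
  map_one' := by simp [chi_zero]
  map_mul' a b := by simp [chi_add]

/-- Evaluation of the torus. -/
def evTorus (δ : Fin N → Rˣ) : AddMonoidAlgebra R (Fin N → ℤ) →ₐ[k] R :=
  AddMonoidAlgebra.liftNCAlgHom (AlgHom.id k R) (chiHom δ) fun _ _ => Commute.all _ _

lemma evTorus_single (δ : Fin N → Rˣ) (n : Fin N → ℤ) (r : R) :
    evTorus (k := k) δ (AddMonoidAlgebra.single n r) = r * (chi δ n : R) := by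
  simp [evTorus, AddMonoidAlgebra.liftNCAlgHom, chiHom]

/-- Twist by the characters. -/
def twist (δ : Fin N → Rˣ) : AddMonoidAlgebra R (Fin N → ℤ) →ₐ[k] AddMonoidAlgebra R (Fin N → ℤ) :=
  AddMonoidAlgebra.liftNCAlgHom ((AddMonoidAlgebra.singleZeroAlgHom (R := k) (A := R)))
    { toFun := fun n => AddMonoidAlgebra.single n.toAdd (chi δ n.toAdd : R)
      map_one' := by simp [chi_zero, AddMonoidAlgebra.one_def]
      map_mul' := fun a b => by simp [chi_add, AddMonoidAlgebra.single_mul_single] }
    fun _ _ => Commute.all _ _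

lemma twist_single (δ : Fin N → Rˣ) (n : Fin N → ℤ) (r : R) :
    twist (k := k) δ (AddMonoidAlgebra.single n r) = AddMonoidAlgebra.single n (r * (chi δ n : R)) := by
  simp [twist, AddMonoidAlgebra.liftNCAlgHom, AddMonoidAlgebra.single_mul_single]

lemma coeff_twist (δ : Fin N → Rˣ) (p : AddMonoidAlgebra R (Fin N → ℤ)) (n : Fin N → ℤ) :
    (twist (k := k) δ p).coeff n = p.coeff n * (chi δ n : R) := by
  classical
  induction p using AddMonoidAlgebra.induction_linear with
  | zero => simp
  | add p q hp hq => simp [map_add, hp, hq, add_mul]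
  | single m r =>
    rw [twist_single, AddMonoidAlgebra.coeff_single, AddMonoidAlgebra.coeff_single, Finsupp.single_apply,
      Finsupp.single_apply]
    split_ifs with h <;> simp [h]

/-- The torus translate of a point. -/
def torPt (δ : Fin N → Rˣ) (x : GLn N k →ₐ[k] R) : GLn N k →ₐ[k] R :=
  ptu (Matrix.diagonal (fun i => (δ i : R)) * mtx x) (by
    rw [Matrix.det_mul, Matrix.det_diagonal]
    exact ((IsUnit.prod_iff.2 fun i _ => (δ i).isUnit)).mul (isUnit_det_mtx x))

lemma evTorus_comp_uPt (δ : Fin N → Rˣ) (x : GLn N k →ₐ[k] R) : (evTorus δ).comp (uPt x) = torPt δ x := by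
  refine ext_mtx (Matrix.ext fun i j => ?_)
  simp [uPt, torPt, uMat_apply, evTorus_single, chi_single, Matrix.diagonal_mul, mul_comm]

lemma torPt_piece (δ : Fin N → Rˣ) (x : GLn N k →ₐ[k] R) (n : Fin N → ℤ) (f : GLn N k) :
    torPt δ x (piece n f) = (chi δ n : R) * x (piece n f) := by
  have e : uPt (torPt δ x) = (twist δ).comp (uPt x) := by
    refine ext_mtx (Matrix.ext fun i j => ?_)
    simp [uPt, torPt, uMat_apply, twist_single, chi_single, Matrix.diagonal_mul, mul_comm]
  rw [apply_piece, apply_piece, e, AlgHom.comp_apply, coeff_twist, mul_comm]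

/-- A function is the sum of its components. -/
lemma sum_piece (f : GLn N k) :
    f = (uPt (AlgHom.id k (GLn N k)) f).coeff.sum fun n r => r := by
  have h : (evTorus (fun _ => (1 : (GLn N k)ˣ))).comp (uPt (AlgHom.id k (GLn N k))) = AlgHom.id k (GLn N k) := by
    rw [evTorus_comp_uPt]
    refine ext_mtx (Matrix.ext fun i j => ?_)
    simp [torPt]
  conv_lhs => rw [← AlgHom.id_apply (R := k) f, ← h, AlgHom.comp_apply]
  generalize uPt (AlgHom.id k (GLn N k)) f = p
  induction p using AddMonoidAlgebra.induction_linear with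
  | zero => simp
  | add p q hp hq =>
    rw [map_add, hp, hq, AddMonoidAlgebra.coeff_add, Finsupp.sum_add_index' (fun _ => rfl) (fun _ _ _ => rfl)]
  | single m r => simp [evTorus_single, chi]

variable {A : Type u} [CommRing A] [HopfAlgebra k A] {π : GLn N k →ₐc[k] A}

lemma piece_mem_inv [IsAlgClosed k] [CharZero k] [Algebra.FiniteType k A] {f : GLn N k} (hf : f ∈ inv π)
    (n : Fin N → ℤ) : piece n f ∈ inv π := by
  refine (mem_inv_iff π _).2 fun h γ => ?_
  rw [apply_piece, apply_piece]
  congr 2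
  refine apply_eq_of_mtx hf ((Algebra.ofId k _).comp γ.ofConv) ?_
  rw [uPt, uPt, mtx_ptu, mtx_ptu, mtx_mul, uMat, uMat, Matrix.map_mul, ← Matrix.mul_assoc]
  rfl

end Groth.Agent.HM15
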