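import Groth.Agent.Lib.HM15.Retract
import Groth.Agent.Lib.HM15.Pieces
import Groth.Agent.Lib.HM15.Embed
import Groth.Agent.Lib.HM15.OrdInt
import Groth.Agent.Lib.Comodule.Mu
import Groth.Agent.S11796
import Groth.Prelude.Def_SGA3t2b
import Mathlib.Algebra.Order.GroupWithZero.Canonical

/-!
# From a valued point of the group to a one-parameter subgroup
-/

open TensorProduct HopfRep WithConv CoordGrp LaurentPolynomial

universe u

noncomputable section

namespace Groth.Agent.HM15

set_option linter.unusedSectionVars false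
set_option linter.style.haveILetI false

attribute [local instance] finiteType_GLn'

variable {k : Type u} [Field k] [IsAlgClosed k] [CharZero k] {N : ℕ} {A : Type u} [CommRing A] [HopfAlgebra k A]
  [Algebra.FiniteType k A] {π : GLn N k →ₐc[k] A}

/-- The orbit in terms of the universal translation. -/
lemma path_piece (μ : Fin N → ℤ) (p : GLn N k →ₐ[k] k) (n : Fin N → ℤ) (f : GLn N k) :
    path μ p (piece n f) = T (∑ i, μ i * n i) * C (p (piece n f)) := by
  let δ : Fin N → k[T;T⁻¹]ˣ := fun i => (isUnit_T (μ i)).unit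
  have e : path μ p = torPt δ ((Algebra.ofId k k[T;T⁻¹]).comp p) := ext_mtx (by
    simp only [path, torPt, dM, mtx_ptu, mtx_comp, δ, IsUnit.unit_spec]
    rfl)
  rw [e, torPt_piece]
  congr 1
  have hz : ∀ (i : Fin N) (z : ℤ), ((δ i ^ z : k[T;T⁻¹]ˣ) : k[T;T⁻¹]) = T (μ i * z) := fun i z => by
    induction z using Int.induction_on with
    | zero => simp
    | succ n ih => rw [zpow_add, Units.val_mul, ih, zpow_one, mul_add, mul_one, T_add]; rfl
    | pred n ih =>
      rw [zpow_sub, zpow_one, Units.val_mul, ih, mul_sub, mul_one, sub_eq_add_neg, T_add]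
      congr 1
      exact Units.inv_eq_of_mul_eq_one_right (by show T (μ i) * T (-μ i) = 1; rw [← T_add, add_neg_cancel, T_zero])
  rw [chi, Units.coe_prod]
  simp only [hz]
  classical
  generalize (Finset.univ : Finset (Fin N)) = s
  induction s using Finset.induction_on with
  | empty => simp
  | insert a s ha ih => rw [Finset.prod_insert ha, Finset.sum_insert ha, ih, T_add]

lemma good_of_generators {μ : Fin N → ℤ} {p : GLn N k →ₐ[k] k} (hG : IsLinearlyReductive k A)
    (hπ : Function.Surjective π) (gen : Finset (GLn N k)) (hgen : inv π = Algebra.adjoin k (gen : Set (GLn N k)))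
    (h : ∀ f ∈ gen, ∀ n ∈ (uPt (AlgHom.id k (GLn N k)) f).coeff.support, p (piece n f) ≠ 0 → 0 ≤ ∑ i, μ i * n i) :
    Good μ π p := by
  intro f hf
  have hf' : f ∈ Algebra.adjoin k (gen : Set (GLn N k)) := hgen ▸ hf
  clear hf
  induction hf' using Algebra.adjoin_induction with
  | mem f hf =>
    intro n hn
    rw [sum_piece f, Finsupp.sum, map_sum, AddMonoidAlgebra.coeff_sum, Finsupp.finsetSum_apply]
    refine Finset.sum_eq_zero fun i hi => ?_
    show (path μ p (piece i f)).coeff n = 0
    rw [path_piece]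
    rcases eq_or_ne (p (piece i f)) 0 with h0 | h0
    · simp [h0]
    · have hs := h f hf i hi h0
      rw [Comodule.coeff_T_mul, show (C (p (piece i f)) : k[T;T⁻¹]) = AddMonoidAlgebra.single 0 _ from rfl,
        AddMonoidAlgebra.coeff_single, Finsupp.single_apply, if_neg (by omega)]
  | algebraMap c =>
    intro n hn
    rw [(path μ p).commutes, LaurentPolynomial.algebraMap_apply,
      show (C (algebraMap k k c) : k[T;T⁻¹]) = AddMonoidAlgebra.single 0 _ from rfl,
      AddMonoidAlgebra.coeff_single, Finsupp.single_apply, if_neg (by omega)]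
  | add f g _ _ hf hg =>
    intro n hn
    rw [map_add, AddMonoidAlgebra.coeff_add, Finsupp.add_apply, hf n hn, hg n hn, add_zero]
  | mul f g _ _ hf hg =>
    rw [map_mul, ← Comodule.noNeg_iff.1 hf, ← Comodule.noNeg_iff.1 hg, ← map_mul]
    exact Comodule.noNeg_toLaurent _

/-- The one-parameter subgroup through a fixed coset. -/
theorem exists_conj_lam (hπ : Function.Surjective π) (hG : IsLinearlyReductive k A) (μ : Fin N → ℤ)
    (p : GLn N k →ₐ[k] k) (hfix : ∀ f ∈ inv π, ∀ s : kˣ, (dPt μ s * toConv p).ofConv f = p f) :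
    ∃ lam : A →ₐc[k] k[T;T⁻¹], ∀ i j, lam (π (GLn.X i j)) =
      (((mtx p)⁻¹.map (algebraMap k k[T;T⁻¹]) * Matrix.diagonal (fun l => T (-μ l)) *
        (mtx p).map (algebraMap k k[T;T⁻¹])) : Matrix (Fin N) (Fin N) k[T;T⁻¹]) i j := by
  classical
  set c := (mtx p)⁻¹.map (algebraMap k k[T;T⁻¹]) * Matrix.diagonal (fun l => T (-μ l)) *
        (mtx p).map (algebraMap k k[T;T⁻¹]) with hc
  have hcij : ∀ i j, c i j = ∑ l, algebraMap k k[T;T⁻¹] ((mtx p)⁻¹ i l * mtx p l j) * T (-μ l) := fun i j => by
    rw [hc, Matrix.mul_apply]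
    refine Finset.sum_congr rfl fun l _ => ?_
    rw [Matrix.mul_diagonal, Matrix.map_apply, Matrix.map_apply, map_mul]
    ring
  have hinv : mtx p * (mtx p)⁻¹ = 1 := Matrix.mul_nonsing_inv _ (isUnit_det_mtx p)
  have hinv' : (mtx p)⁻¹ * mtx p = 1 := Matrix.nonsing_inv_mul _ (isUnit_det_mtx p)
  have hε : ∀ i j, CoalgebraStruct.counit (R := k) (c i j) = if i = j then (1 : k) else 0 := by
    intro i j
    rw [hcij, map_sum]
    simp only [Bialgebra.counit_mul, Bialgebra.counit_algebraMap, counit_T, mul_one]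
    rw [← Matrix.mul_apply, hinv', Matrix.one_apply]
  have hΔ : ∀ i j, CoalgebraStruct.comul (R := k) (c i j) = ∑ l, c i l ⊗ₜ[k] c l j := by
    intro i j
    let iL : k[T;T⁻¹] →ₐ[k] k[T;T⁻¹] ⊗[k] k[T;T⁻¹] := Algebra.TensorProduct.includeLeft
    let iR : k[T;T⁻¹] →ₐ[k] k[T;T⁻¹] ⊗[k] k[T;T⁻¹] := Algebra.TensorProduct.includeRight
    have h1 : ∑ l, c i l ⊗ₜ[k] c l j = (c.map iL * c.map iR) i j := by
      rw [Matrix.mul_apply]
      simp [iL, iR, Algebra.TensorProduct.tmul_mul_tmul]
    have h2 : (Bialgebra.comulAlgHom k k[T;T⁻¹]).mapMatrix c = c.map iL * c.map iR := by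
      have hC : ∀ (φ : k[T;T⁻¹] →ₐ[k] k[T;T⁻¹] ⊗[k] k[T;T⁻¹]) (X : Matrix (Fin N) (Fin N) k),
          (X.map (algebraMap k k[T;T⁻¹])).map φ = X.map (algebraMap k (k[T;T⁻¹] ⊗[k] k[T;T⁻¹])) := fun φ X =>
        Matrix.ext fun a b => φ.commutes _
      simp only [hc, AlgHom.mapMatrix_apply, Matrix.map_mul, hC, Matrix.diagonal_map (map_zero _)]
      set P := (mtx p)⁻¹.map (algebraMap k (k[T;T⁻¹] ⊗[k] k[T;T⁻¹]))
      set Q := (mtx p).map (algebraMap k (k[T;T⁻¹] ⊗[k] k[T;T⁻¹]))
      have hQP : Q * P = 1 := by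
        rw [← Matrix.map_mul, hinv, Matrix.map_one _ (map_zero _) (map_one _)]
      rw [show ∀ (X Y : Matrix (Fin N) (Fin N) (k[T;T⁻¹] ⊗[k] k[T;T⁻¹])), P * X * Q * (P * Y * Q) =
        P * (X * Y) * Q from fun X Y => by
          rw [Matrix.mul_assoc (P * X), ← Matrix.mul_assoc Q, ← Matrix.mul_assoc Q, hQP, Matrix.one_mul,
            Matrix.mul_assoc P, Matrix.mul_assoc, ← Matrix.mul_assoc X], Matrix.diagonal_mul_diagonal]
      congr 3
      funext l
      simp [iL, iR, Algebra.TensorProduct.tmul_mul_tmul, comul_T]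
    rw [h1, ← h2]
    rfl
  obtain ⟨Λ, hΛ⟩ := HopfGL23.exists_hom (k := k) c hΔ hε
  have hker : ∀ a, π a = 0 → Λ a = 0 := by
    intro a ha
    refine eq_zero_of_evL fun s => ?_
    let g : WithConv (GLn N k →ₐ[k] k) := (toConv p)⁻¹ * dPt μ s * toConv p
    obtain ⟨γ, hγ⟩ := exists_push_of_forall π hπ hG g fun f hf => by
      have hf' := tr_mem_inv π hf (toConv p)⁻¹
      simp only [g]
      rw [mul_assoc, ← FreeOrbH28.apply_tr, hfix _ hf']
      show (toConv p).ofConv (FreeOrbH28.tr (toConv p)⁻¹ f) = _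
      rw [FreeOrbH28.apply_tr, inv_mul_cancel, AlgHom.convOne_apply]
      simp
    have h2 : (evL s).comp (Λ : GLn N k →ₐ[k] k[T;T⁻¹]) = (push π γ⁻¹).ofConv := by
      have hi : push π γ⁻¹ = (push π γ)⁻¹ :=
        eq_inv_of_mul_eq_one_left (by rw [← push_mul, inv_mul_cancel, push_one])
      rw [hi, hγ]
      simp only [g, mul_inv_rev, inv_inv]
      refine ext_mtx ?_
      have hp' : mtx ((toConv p)⁻¹).ofConv = (mtx p)⁻¹ := by
        refine (Matrix.inv_eq_left_inv ?_).symm
        have := mtx_mul (toConv p)⁻¹ (toConv p)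
        rw [inv_mul_cancel, mtx_one] at this
        exact this.symm
      have hd : mtx ((dPt μ s)⁻¹).ofConv = Matrix.diagonal fun l => ((s ^ (-μ l) : kˣ) : k) := by
        have h' : mtx (dPt μ s).ofConv = Matrix.diagonal fun l => ((s ^ μ l : kˣ) : k) := mtx_ptu _ _
        have hm := mtx_mul (dPt μ s)⁻¹ (dPt μ s)
        rw [inv_mul_cancel, mtx_one, h'] at hm
        refine ((Matrix.inv_eq_left_inv hm.symm).symm).trans (Matrix.inv_eq_left_inv ?_)
        rw [Matrix.diagonal_mul_diagonal, ← Matrix.diagonal_one]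
        congr 1
        funext i
        rw [← Units.val_mul, ← zpow_add, neg_add_cancel, zpow_zero, Units.val_one]
      rw [mtx_mul, mtx_mul, hp', hd, mtx_comp, show mtx (Λ : GLn N k →ₐ[k] k[T;T⁻¹]) = c from Matrix.ext hΛ, hc]
      have hev : ∀ X : Matrix (Fin N) (Fin N) k, (X.map (algebraMap k k[T;T⁻¹])).map (evL s) = X := fun X =>
        Matrix.ext fun a b => (evL s).commutes _
      rw [Matrix.map_mul, Matrix.map_mul, hev, hev, Matrix.diagonal_map (map_zero _), Matrix.mul_assoc]
      congr 3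
      funext l
      exact evL_T _ _
    have := AlgHom.congr_fun h2 a
    rw [push_apply, ha, map_zero] at this
    exact this
  let q : A →ₐ[k] k[T;T⁻¹] := (Ideal.Quotient.liftₐ (RingHom.ker (π : GLn N k →ₐ[k] A))
    (Λ : GLn N k →ₐ[k] k[T;T⁻¹]) fun a ha => hker a ha).comp
    (Ideal.quotientKerAlgEquivOfSurjective (f := (π : GLn N k →ₐ[k] A)) hπ).symm.toAlgHom
  have hq : ∀ a, q (π a) = Λ a := fun a => by
    show Ideal.Quotient.liftₐ _ (Λ : GLn N k →ₐ[k] k[T;T⁻¹]) (fun a ha => hker a ha)
      ((Ideal.quotientKerAlgEquivOfSurjective (f := (π : GLn N k →ₐ[k] A)) hπ).symm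
        ((Ideal.quotientKerAlgEquivOfSurjective (f := (π : GLn N k →ₐ[k] A)) hπ) (Ideal.Quotient.mk _ a))) = _
    rw [AlgEquiv.symm_apply_apply]
    rfl
  refine ⟨BialgHom.ofAlgHom q (AlgHom.ext fun a => ?_) (AlgHom.ext fun a => ?_), fun i j => (hq _).trans (hΛ i j)⟩
  · obtain ⟨b, rfl⟩ := hπ a
    show CoalgebraStruct.counit (R := k) (q (π b)) = CoalgebraStruct.counit (R := k) (π b)
    rw [hq, CoalgHomClass.counit_comp_apply, CoalgHomClass.counit_comp_apply]
  · obtain ⟨b, rfl⟩ := hπ a
    show Algebra.TensorProduct.map q q (CoalgebraStruct.comul (R := k) (π b)) =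
      CoalgebraStruct.comul (R := k) (q (π b))
    rw [hq, ← CoalgHomClass.map_comp_comul_apply π, ← CoalgHomClass.map_comp_comul_apply Λ]
    generalize CoalgebraStruct.comul (R := k) b = z
    induction z with
    | zero => simp
    | tmul x y => simp [hq]
    | add x y hx hy => simp only [map_add, hx, hy]

section Valued

variable {K : Type u} [Field K] [Algebra k K]

/-- The weight vector from a valued point. -/
theorem exists_weights (hπ : Function.Surjective π) (hG : IsLinearlyReductive k A) (V : ValuationSubring K)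
    (res : V →+* k) (halg : ∀ c : k, ∃ h : algebraMap k K c ∈ V, res ⟨_, h⟩ = c)
    (hker : RingHom.ker res = IsLocalRing.maximalIdeal V) (v : Fin N → V) (strict : Bool) (ω : A →ₐ[k] K)
    (hint : ∀ j, ∃ h : Matrix.vecMul (fun l => (v l : K)) (mtx (ω.comp (π : GLn N k →ₐ[k] A))) j ∈ V,
      strict → res ⟨_, h⟩ = 0)
    (hne : if strict then (fun l => res (v l)) ≠ 0 else ∃ a, ω a ∉ V) :
    ∃ (μ : Fin N → ℤ) (p : GLn N k →ₐ[k] k) (w : Fin N → k), μ ≠ 0 ∧ Good μ π p ∧
      (∀ i, w i ≠ 0 → if strict then μ i < 0 else μ i ≤ 0) ∧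
        (fun l => res (v l)) = Matrix.vecMul w (mtx p) := by
  classical
  choose halgV halgres using halg
  choose hintV hintres using hint
  let ι₀ : k →+* V := (algebraMap k K).codRestrict V.toSubring halgV
  letI : Algebra k V := ι₀.toAlgebra
  let toK : V →ₐ[k] K := { toRingHom := algebraMap V K, commutes' := fun _ => rfl }
  let resA : V →ₐ[k] k := { toRingHom := res, commutes' := halgres }
  set Ξ := mtx (ω.comp (π : GLn N k →ₐ[k] A)) with hΞdef
  obtain ⟨a, b, δ, ha, hb, hΞ⟩ := S11796.result V K N Ξ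
  have hδ0 : ∀ i, δ i ≠ 0 := by
    have hu := isUnit_det_mtx (ω.comp (π : GLn N k →ₐ[k] A))
    rw [← hΞdef, hΞ, Matrix.det_mul, Matrix.det_mul, Matrix.det_diagonal] at hu
    intro i hi
    rw [Finset.prod_eq_zero (Finset.mem_univ i) hi, mul_zero, zero_mul] at hu
    exact not_isUnit_zero hu
  let δu : Fin N → Kˣ := fun i => Units.mk0 _ (hδ0 i)
  let e : Fin N → V.ValueGroupˣ := fun i => Units.mk0 (V.valuation (δ i)) ((map_ne_zero _).2 (hδ0 i))
  -- the reduction
  have hau : IsUnit a.adjugate.det := by rw [Matrix.det_adjugate, ha, one_pow]; exact isUnit_one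
  let xa : GLn N k →ₐ[k] V := ptu a.adjugate hau
  let xb : GLn N k →ₐ[k] V := ptu b (by rw [hb]; exact isUnit_one)
  let p : GLn N k →ₐ[k] k := resA.comp xa
  let y : GLn N k →ₐ[k] K := torPt (fun i => (δu i)⁻¹) (toK.comp xa)
  let w : Fin N → k := Matrix.vecMul (fun l => res (v l)) (a.map res)
  have hv : (fun l => res (v l)) = Matrix.vecMul w (mtx p) := by
    rw [Matrix.vecMul_vecMul, show mtx p = a.adjugate.map res from by simp only [p, xa, mtx_comp, mtx_ptu]; rfl,
      ← Matrix.map_mul, Matrix.mul_adjugate, ha, one_smul, Matrix.map_one _ (map_zero _) (map_one _),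
      Matrix.vecMul_one]
  -- invariants
  have hmtx : mtx (toK.comp xb) = mtx y * mtx (ω.comp (π : GLn N k →ₐ[k] A)) := by
    simp only [y, torPt, xa, xb, mtx_comp, mtx_ptu]
    show b.map (algebraMap V K) = Matrix.diagonal (fun i => ((δu i)⁻¹ : Kˣ).val) * a.adjugate.map (algebraMap V K) * _
    rw [← mtx_comp, ← hΞdef, hΞ, Matrix.mul_assoc, ← Matrix.mul_assoc (a.adjugate.map _),
      ← Matrix.mul_assoc (a.adjugate.map _), ← Matrix.map_mul, Matrix.adjugate_mul, ha, one_smul,
      Matrix.map_one _ (map_zero _) (map_one _), Matrix.one_mul, ← Matrix.mul_assoc, Matrix.diagonal_mul_diagonal,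
      show (fun i => ((δu i)⁻¹ : Kˣ).val * δ i) = fun _ => (1 : K) from funext fun i => by simp [δu, hδ0 i],
      Matrix.diagonal_one, Matrix.one_mul]
  have hpiece : ∀ f ∈ inv π, ∀ n, p (piece n f) ≠ 0 → ∏ i, e i ^ (-n i) ≤ 1 := by
    intro f hf n h0
    have h1 := apply_eq_of_mtx (piece_mem_inv hf n) ω hmtx
    simp only [y] at h1
    rw [torPt_piece] at h1
    have hu : IsUnit (xa (piece n f)) := by
      by_contra hu
      have hm : xa (piece n f) ∈ RingHom.ker res := hker ▸ (IsLocalRing.mem_maximalIdeal _).2 hu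
      exact h0 hm
    have h2 : V.valuation (toK (xb (piece n f))) ≤ 1 := (V.valuation_le_one_iff _).2 (SetLike.coe_mem _)
    rw [show toK (xb (piece n f)) = (toK.comp xb) (piece n f) from rfl, h1, map_mul,
      show V.valuation ((toK.comp xa) (piece n f)) = 1 from (V.valuation_eq_one_iff _).1 hu, mul_one, chi,
      Units.coe_prod, map_prod] at h2
    rw [← Units.val_le_val, Units.coe_prod, Units.val_one]
    refine le_of_eq_of_le (Finset.prod_congr rfl fun i _ => ?_) h2
    simp [δu, e, map_zpow₀, zpow_neg, inv_zpow]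
  -- the vector
  let uV : Fin N → V := fun j => ⟨_, hintV j⟩
  have hwδ : ∀ i, w i ≠ 0 → if strict then e i < 1 else e i ≤ 1 := by
    intro i hi
    let z : V := Matrix.vecMul uV b.adjugate i
    let t : V := Matrix.vecMul v a i
    have ht : IsUnit t := by
      by_contra hu
      refine hi ?_
      have h3 : res t = w i := by
        exact RingHom.map_vecMul res a _ i
      exact h3.symm.trans (RingHom.mem_ker.1 (hker ▸ (IsLocalRing.mem_maximalIdeal _).2 hu))
    have hz : algebraMap V K z = algebraMap V K t * δ i := by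
      rw [show algebraMap V K z = Matrix.vecMul (fun l => algebraMap V K (uV l)) (b.adjugate.map (algebraMap V K)) i
          from RingHom.map_vecMul _ _ _ i,
        show algebraMap V K t = Matrix.vecMul (fun l => (v l : K)) (a.map (algebraMap V K)) i
          from RingHom.map_vecMul _ _ _ i,
        show (fun l => algebraMap V K (uV l)) = Matrix.vecMul (fun l => (v l : K)) Ξ from rfl,
        Matrix.vecMul_vecMul, hΞ, Matrix.mul_assoc, ← Matrix.map_mul, Matrix.mul_adjugate, hb, one_smul,
        Matrix.map_one _ (map_zero _) (map_one _), Matrix.mul_one, ← Matrix.vecMul_vecMul, Matrix.vecMul_diagonal]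
    have hval : V.valuation (algebraMap V K z) = V.valuation (δ i) := by
      rw [hz, map_mul, show V.valuation (algebraMap V K t) = 1 from (V.valuation_eq_one_iff _).1 ht, one_mul]
    cases hs : strict
    · rw [if_neg Bool.false_ne_true, ← Units.val_le_val]
      show V.valuation (δ i) ≤ 1
      rw [← hval]
      exact (V.valuation_le_one_iff _).2 (SetLike.coe_mem _)
    · rw [if_pos rfl, ← Units.val_lt_val]
      show V.valuation (δ i) < 1
      rw [← hval]
      refine (V.valuation_lt_one_iff _).1 ?_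
      rw [← hker, RingHom.mem_ker, show res z = Matrix.vecMul (fun l => res (uV l)) (b.adjugate.map res) i
        from RingHom.map_vecMul _ _ _ i, show (fun l => res (uV l)) = 0 from funext fun l => hintres l hs,
        Matrix.zero_vecMul]
      rfl
  -- some weight is non-trivial
  have hnontriv : ∃ i, e i ≠ 1 := by
    by_contra! hcon
    cases hs : strict
    · rw [hs, if_neg Bool.false_ne_true] at hne
      obtain ⟨a₀, ha₀⟩ := hne
      have hd : ∀ i, δ i ∈ V := fun i => (V.valuation_le_one_iff _).1 (le_of_eq (congrArg Units.val (hcon i)))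
      let M : Matrix (Fin N) (Fin N) V := a * Matrix.diagonal (fun i => ⟨δ i, hd i⟩) * b
      have hM : IsUnit M.det := by
        rw [Matrix.det_mul, Matrix.det_mul, Matrix.det_diagonal, ha, hb, one_mul, mul_one]
        exact IsUnit.prod_iff.2 fun i _ => (V.valuation_eq_one_iff _).2 (congrArg Units.val (hcon i))
      have heq : toK.comp (ptu M hM) = ω.comp (π : GLn N k →ₐ[k] A) := ext_mtx (by
        rw [mtx_comp, mtx_ptu, ← hΞdef, hΞ]
        simp only [M, Matrix.map_mul, toK, AlgHom.coe_mk, Matrix.diagonal_map (map_zero (algebraMap V K))]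
        rfl)
      obtain ⟨f, rfl⟩ := hπ a₀
      have hf := AlgHom.congr_fun heq f
      exact ha₀ (by
        rw [show ω (π f) = toK (ptu M hM f) from hf.symm]
        exact SetLike.coe_mem _)
    · rw [hs, if_pos rfl] at hne
      obtain ⟨i, hi⟩ : ∃ i, w i ≠ 0 := by
        by_contra! h
        exact hne (by rw [hv, show w = 0 from funext h, Matrix.zero_vecMul])
      have := hwδ i hi
      rw [hs, if_pos rfl, hcon i] at this
      exact lt_irrefl _ this
  obtain ⟨i₀, hi₀⟩ := hnontriv
  -- solve in integers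
  obtain ⟨gen, hgen⟩ := exists_finset_inv π hG
  let S : Finset ((Fin N → ℤ) × Bool) :=
    insert (if e i₀ < 1 then (Pi.single i₀ 1, true) else (Pi.single i₀ (-1), true))
      (((Finset.univ.filter fun i => w i ≠ 0).image fun i => (Pi.single i (1 : ℤ), strict)) ∪
        gen.biUnion fun f => ((uPt (AlgHom.id k (GLn N k)) f).coeff.support.filter fun n => p (piece n f) ≠ 0).image
          fun n => (-n, false))
  let x : Fin N → Additive V.ValueGroupˣ := fun i => Additive.ofMul (e i)⁻¹
  have hsum : ∀ c : Fin N → ℤ, ∑ i, c i • x i = Additive.ofMul (∏ i, e i ^ c i)⁻¹ := fun c => by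
    simp only [x, ← ofMul_zpow, ← ofMul_prod, inv_zpow, Finset.prod_inv_distrib]
  have hle : ∀ g : V.ValueGroupˣ, g ≤ 1 → (0 : Additive V.ValueGroupˣ) ≤ Additive.ofMul g⁻¹ := fun g h =>
    (one_le_inv'.2 h : (1 : V.ValueGroupˣ) ≤ g⁻¹)
  have hlt : ∀ g : V.ValueGroupˣ, g < 1 → (0 : Additive V.ValueGroupˣ) < Additive.ofMul g⁻¹ := fun g h =>
    (one_lt_inv'.2 h : (1 : V.ValueGroupˣ) < g⁻¹)
  have hsingle : ∀ (i : Fin N) (z : ℤ), ∏ j, e j ^ (Pi.single i z : Fin N → ℤ) j = e i ^ z := fun i z => by
    rw [Finset.prod_eq_single i (fun j _ hj => by simp [hj]) (by simp), Pi.single_eq_same]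
  obtain ⟨l, hl⟩ := exists_int_solution S x (by
    intro c hc
    simp only [S, Finset.mem_insert, Finset.mem_union, Finset.mem_image, Finset.mem_biUnion, Finset.mem_filter,
      Finset.mem_univ, true_and] at hc
    rcases hc with rfl | ⟨i, hi, rfl⟩ | ⟨f, hf, n, ⟨-, hn⟩, rfl⟩
    · split_ifs with h
      · simp only [Holds, if_true, hsum, hsingle, zpow_one]
        exact hlt _ h
      · simp only [Holds, if_true, hsum, hsingle, zpow_neg, zpow_one]
        exact hlt _ (inv_lt_one'.2 (lt_of_le_of_ne (not_lt.1 h) (Ne.symm hi₀)))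
    · have := hwδ i hi
      simp only [Holds, hsum, hsingle, zpow_one]
      split_ifs at this ⊢ with hs
      · exact hlt _ this
      · exact hle _ this
    · simp only [Holds, Bool.false_eq_true, if_false, hsum]
      exact hle _ (hpiece f (hgen.ge (Algebra.subset_adjoin hf)) n hn))
  refine ⟨fun i => -l i, p, w, fun h0 => ?_, ?_, fun i hi => ?_, hv⟩
  · have h := hl _ (Finset.mem_insert_self _ _)
    have hli : l = 0 := funext fun i => neg_eq_zero.1 (congrFun h0 i)
    simp only [Holds, hli] at h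
    split_ifs at h <;> simp_all
  · refine good_of_generators hG hπ gen hgen fun f hf n hn hp => ?_
    have h := hl (-n, false) (Finset.mem_insert_of_mem (Finset.mem_union_right _ (Finset.mem_biUnion.2
      ⟨f, hf, Finset.mem_image.2 ⟨n, Finset.mem_filter.2 ⟨hn, hp⟩, rfl⟩⟩)))
    simp only [Holds, Bool.false_eq_true, if_false, Pi.neg_apply, smul_eq_mul] at h
    refine h.trans_eq (Finset.sum_congr rfl fun i _ => ?_)
    ring
  · have h := hl (Pi.single i 1, strict) (Finset.mem_insert_of_mem (Finset.mem_union_left _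
      (Finset.mem_image.2 ⟨i, Finset.mem_filter.2 ⟨Finset.mem_univ _, hi⟩, rfl⟩)))
    simp only [Holds, smul_eq_mul, Pi.single_apply, ite_mul, one_mul, zero_mul, Finset.sum_ite_eq', Finset.mem_univ,
      if_true] at h
    show if strict then -l i < 0 else -l i ≤ 0
    split_ifs at h ⊢ <;> omega

end Valued

section Linear

variable {ι : Type u} [Fintype ι] [Comod k A (MvPolynomial ι k)] [GLin.IsCoactAlg k A (MvPolynomial ι k)]

/-- A valued point of the group keeping a moving vector integral gives a one-parameter subgroup with a limit for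
its reduction. -/
theorem exists_lam_valued (hG : IsLinearlyReductive k A) (hlin : GLin.IsLinear k A ι) {K : Type u} [Field K]
    [Algebra k K] (V : ValuationSubring K) (res : V →+* k) (halg : ∀ c : k, ∃ h : algebraMap k K c ∈ V, res ⟨_, h⟩ = c)
    (hker : RingHom.ker res = IsLocalRing.maximalIdeal V) (u : ι → V) (strict : Bool) (ω : A →ₐ[k] K)
    (hint : ∀ i, ∃ h : Algebra.TensorProduct.lift (MvPolynomial.aeval fun l => (u l : K)) ω (fun _ _ => .all _ _)
      (Comod.coact (k := k) (A := A) (MvPolynomial.X i : MvPolynomial ι k)) ∈ V, strict → res ⟨_, h⟩ = 0)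
    (hne : if strict then (fun i => res (u i)) ≠ 0 else ∃ a, ω a ∉ V) :
    ∃ lam : A →ₐc[k] k[T;T⁻¹], ¬ SGA3t2b.IsTrivialBialgHom lam ∧
      ∀ (i : ι) (n : ℤ), (if strict then n ≤ 0 else n < 0) →
        (Comodule.coordOrbit lam (fun i => res (u i)) i).coeff n = 0 := by
  classical
  obtain ⟨N, π, e, hπ, he, hv⟩ := exists_embedding hlin
  choose m hm using hlin
  set v := fun i => res (u i) with hvdef
  set v' := Function.extend e v 0 with hv'
  obtain ⟨hv1, hv2⟩ := hv v
  set u' : Fin N → V := Function.extend e u 0 with hu'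
  have hres' : (fun l => res (u' l)) = v' := funext fun l => by
    by_cases hl : ∃ i, e i = l
    · obtain ⟨i, rfl⟩ := hl
      rw [hu', hv', he.extend_apply, he.extend_apply]
    · rw [hu', hv', Function.extend_apply' _ _ _ hl, Function.extend_apply' _ _ _ hl]
      exact map_zero res
  have hsum : ∀ (F : Fin N → A), (∑ l, (u' l : K) * ω (F l)) = ∑ i, (u i : K) * ω (F (e i)) := fun F => by
    rw [← Finset.sum_subset (Finset.subset_univ (Finset.univ.image e)) fun l _ hl => ?_,
      Finset.sum_image fun a _ b _ h => he h]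
    · exact Finset.sum_congr rfl fun i _ => by rw [hu', he.extend_apply]
    · rw [hu', Function.extend_apply' _ _ _ fun ⟨i, hi⟩ => hl (Finset.mem_image.2 ⟨i, Finset.mem_univ _, hi⟩)]
      exact zero_mul _
  have hsingle : ∀ (j : ι) (i : Fin N),
      ∑ l, Function.extend e (Pi.single j (1 : k)) 0 l • π (GLn.X l i) = π (GLn.X (e j) i) := fun j i => by
    rw [Finset.sum_eq_single (e j) (fun l _ hl => ?_) (by simp), he.extend_apply, Pi.single_eq_same, one_smul]
    by_cases hl' : ∃ b, e b = l
    · obtain ⟨b, rfl⟩ := hl'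
      rw [he.extend_apply, Pi.single_eq_of_ne (fun h => hl (by rw [h])), zero_smul]
    · rw [Function.extend_apply' _ _ _ hl', Pi.zero_apply, zero_smul]
  have hmX : ∀ i j, m i j = π (GLn.X (e j) (e i)) := fun i j => by
    have h1 := (hv (Pi.single j 1)).1 i
    rw [hsingle, Comodule.orbitHom_apply, hm] at h1
    simpa [Pi.single_apply, ite_smul] using h1
  have hval : ∀ i, Matrix.vecMul (fun l => (u' l : K)) (mtx (ω.comp (π : GLn N k →ₐ[k] A))) (e i) =
      Algebra.TensorProduct.lift (MvPolynomial.aeval fun l => (u l : K)) ω (fun _ _ => .all _ _)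
        (Comod.coact (k := k) (A := A) (MvPolynomial.X i : MvPolynomial ι k)) := fun i => by
    rw [hm, map_sum]
    simp only [Algebra.TensorProduct.lift_tmul, MvPolynomial.aeval_X, hmX]
    exact hsum fun l => π (GLn.X l (e i))
  have hzero : ∀ j, (∀ i, e i ≠ j) →
      Matrix.vecMul (fun l => (u' l : K)) (mtx (ω.comp (π : GLn N k →ₐ[k] A))) j = 0 := fun j hj => by
    refine (hsum fun l => π (GLn.X l j)).trans (Finset.sum_eq_zero fun i _ => ?_)
    have h1 := (hv (Pi.single i 1)).2 j hj
    rw [hsingle] at h1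
    rw [h1, map_zero, mul_zero]
  have hint' : ∀ j, ∃ h : Matrix.vecMul (fun l => (u' l : K)) (mtx (ω.comp (π : GLn N k →ₐ[k] A))) j ∈ V,
      strict → res ⟨_, h⟩ = 0 := by
    intro j
    by_cases hj : ∃ i, e i = j
    · obtain ⟨i, rfl⟩ := hj
      obtain ⟨h, h'⟩ := hint i
      exact ⟨hval i ▸ h, fun hs => Eq.trans (congrArg res (Subtype.ext (hval i))) (h' hs)⟩
    · push Not at hj
      exact ⟨hzero j hj ▸ V.zero_mem, fun _ => Eq.trans (congrArg res (Subtype.ext (hzero j hj))) (map_zero res)⟩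
  have hne' : if strict then (fun l => res (u' l)) ≠ 0 else ∃ a, ω a ∉ V := by
    rw [hres']
    split_ifs at hne ⊢ with hs
    · exact fun h0 => hne (funext fun i => by rw [← he.extend_apply v 0 i, ← hv', h0]; rfl)
    · exact hne
  obtain ⟨μ, p₀, w₀, hμ, hgood, hw₀, hvw₀⟩ := exists_weights hπ hG V res halg hker u' strict ω hint' hne'
  rw [hres'] at hvw₀
  obtain ⟨p, w, hw, hvw, hfix⟩ := exists_fixed μ π hπ hG (P := fun z => if strict then z < 0 else z ≤ 0)
    (fun a b hab h => by split_ifs at h ⊢ <;> omega) hgood w₀ hw₀ hvw₀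
  obtain ⟨lam, hlam⟩ := exists_conj_lam hπ hG μ p hfix
  refine ⟨lam, fun htriv => hμ (funext fun l => ?_), fun i n hn => ?_⟩
  · -- a trivial subgroup has trivial weights
    have hc : (mtx p)⁻¹.map (algebraMap k k[T;T⁻¹]) * Matrix.diagonal (fun l => T (-μ l)) *
        (mtx p).map (algebraMap k k[T;T⁻¹]) = 1 := Matrix.ext fun a b => by
      rw [← hlam, htriv, CoalgHomClass.counit_comp_apply, GLn.counit_X, Matrix.one_apply]
      split_ifs <;> simp
    have hd : Matrix.diagonal (fun l => T (-μ l)) = (1 : Matrix (Fin N) (Fin N) k[T;T⁻¹]) := by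
      have := congrArg (fun X => (mtx p).map (algebraMap k k[T;T⁻¹]) * X * (mtx p)⁻¹.map (algebraMap k k[T;T⁻¹])) hc
      simp only [← Matrix.mul_assoc, ← Matrix.map_mul, Matrix.mul_nonsing_inv _ (isUnit_det_mtx p),
        Matrix.map_one _ (map_zero _) (map_one _), Matrix.one_mul, Matrix.mul_one] at this
      rwa [Matrix.mul_assoc, ← Matrix.map_mul, Matrix.mul_nonsing_inv _ (isUnit_det_mtx p),
        Matrix.map_one _ (map_zero _) (map_one _), Matrix.mul_one] at this
    have := congrFun (congrFun hd l) l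
    rw [Matrix.diagonal_apply_eq, Matrix.one_apply_eq] at this
    have h1 := congrArg (fun q : k[T;T⁻¹] => q.coeff (-μ l)) this
    simp only [show (T (-μ l) : k[T;T⁻¹]) = AddMonoidAlgebra.single (-μ l) 1 from rfl,
      show (1 : k[T;T⁻¹]) = AddMonoidAlgebra.single 0 1 from rfl, AddMonoidAlgebra.coeff_single,
      Finsupp.single_apply, if_true] at h1
    by_contra h
    rw [if_neg (fun h' => h (by simpa using h'.symm))] at h1
    exact one_ne_zero h1
  · have h1 : Comodule.coordOrbit lam v i =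
        ∑ l, T (-μ l) * C (w l * mtx p l (e i)) := by
      show lam (GLin.orbitHom k A (GLin.vecPt k ι v) (MvPolynomial.X i)) = _
      rw [hv1, map_sum]
      rw [Finset.sum_congr rfl (g := fun x => algebraMap k k[T;T⁻¹] (v' x) * lam (π (GLn.X x (e i)))) fun x _ => by
        rw [Algebra.smul_def, map_mul]
        congr 1
        exact (lam : A →ₐ[k] k[T;T⁻¹]).commutes _]
      simp only [hlam]
      show Matrix.vecMul (fun l => algebraMap k k[T;T⁻¹] (v' l)) _ (e i) = _
      rw [show (fun l => algebraMap k k[T;T⁻¹] (v' l)) =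
        Matrix.vecMul (fun l => algebraMap k k[T;T⁻¹] (w l)) ((mtx p).map (algebraMap k k[T;T⁻¹])) from
        funext fun l => by rw [hvw]; exact RingHom.map_vecMul _ _ _ _]
      rw [Matrix.vecMul_vecMul, ← Matrix.mul_assoc, ← Matrix.mul_assoc, ← Matrix.map_mul,
        Matrix.mul_nonsing_inv _ (isUnit_det_mtx p), Matrix.map_one _ (map_zero _) (map_one _), Matrix.one_mul,
        ← Matrix.vecMul_vecMul]
      simp only [Matrix.vecMul, dotProduct, Matrix.diagonal_apply, mul_ite, mul_zero, Finset.sum_ite_eq',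
        Finset.mem_univ, if_true, Matrix.map_apply, map_mul]
      refine Finset.sum_congr rfl fun l _ => ?_
      show _ = T (-μ l) * (algebraMap k k[T;T⁻¹] (w l) * algebraMap k k[T;T⁻¹] (mtx p l (e i)))
      ring
    rw [h1, AddMonoidAlgebra.coeff_sum, Finsupp.finsetSum_apply]
    refine Finset.sum_eq_zero fun l _ => ?_
    rcases eq_or_ne (w l) 0 with h0 | h0
    · simp [h0]
    · rw [Comodule.coeff_T_mul, show (C (w l * mtx p l (e i)) : k[T;T⁻¹]) = AddMonoidAlgebra.single 0 _ from rfl,
        AddMonoidAlgebra.coeff_single, Finsupp.single_apply, if_neg]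
      have := hw l h0
      split_ifs at hn this <;> omega

/-- A valued point of the group keeping a vector integral gives a one-parameter subgroup with a limit. -/
theorem exists_lam (hG : IsLinearlyReductive k A) (hlin : GLin.IsLinear k A ι) {K : Type u} [Field K] [Algebra k K]
    (V : ValuationSubring K) (res : V →+* k) (halg : ∀ c : k, ∃ h : algebraMap k K c ∈ V, res ⟨_, h⟩ = c)
    (hker : RingHom.ker res = IsLocalRing.maximalIdeal V) (v : ι → k) (strict : Bool) (ω : A →ₐ[k] K)
    (hint : ∀ i, ∃ h : ω (GLin.orbitHom k A (GLin.vecPt k ι v) (MvPolynomial.X i)) ∈ V, strict → res ⟨_, h⟩ = 0)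
    (hne : if strict then v ≠ 0 else ∃ a, ω a ∉ V) :
    ∃ lam : A →ₐc[k] k[T;T⁻¹], ¬ SGA3t2b.IsTrivialBialgHom lam ∧
      ∀ (i : ι) (n : ℤ), (if strict then n ≤ 0 else n < 0) → (Comodule.coordOrbit lam v i).coeff n = 0 := by
  have hlin' := hlin
  choose m hm using hlin'
  have hu : (fun i => res ⟨algebraMap k K (v i), (halg (v i)).1⟩) = v := funext fun i => (halg (v i)).2
  have hint2 : ∀ i, ∃ h : Algebra.TensorProduct.lift (MvPolynomial.aeval fun l => algebraMap k K (v l)) ω
      (fun _ _ => .all _ _) (Comod.coact (k := k) (A := A) (MvPolynomial.X i : MvPolynomial ι k)) ∈ V,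
      strict → res ⟨_, h⟩ = 0 := fun i => by
    obtain ⟨h, h'⟩ := hint i
    have e1 : Algebra.TensorProduct.lift (MvPolynomial.aeval fun l => algebraMap k K (v l)) ω (fun _ _ => .all _ _)
        (Comod.coact (k := k) (A := A) (MvPolynomial.X i : MvPolynomial ι k)) =
        ω (GLin.orbitHom k A (GLin.vecPt k ι v) (MvPolynomial.X i)) := by
      rw [Comodule.orbitHom_apply, hm]
      simp [Algebra.smul_def]
    exact ⟨e1 ▸ h, fun hs => Eq.trans (congrArg res (Subtype.ext e1)) (h' hs)⟩
  obtain ⟨lam, h1, h2⟩ := exists_lam_valued hG hlin V res halg hker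
    (fun i => ⟨algebraMap k K (v i), (halg (v i)).1⟩) strict ω hint2 (by rwa [hu])
  rw [hu] at h2
  exact ⟨lam, h1, h2⟩

end Linear

end Groth.Agent.HM15
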