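import Groth.Agent.Lib.HM15.Homog

/-!
# Tangent vectors of the coset space lift to the group
-/

open TensorProduct HopfRep WithConv Groth.Agent.Comodule

universe u

noncomputable section

namespace Groth.Agent.HM15

set_option linter.unusedSectionVars false
set_option linter.style.haveILetI false

variable {k : Type u} [Field k] [IsAlgClosed k] [CharZero k] {H A : Type u} [CommRing H] [HopfAlgebra k H]
  [CommRing A] [HopfAlgebra k A] [Algebra.FiniteType k H] [Algebra.FiniteType k A] (π : H →ₐc[k] A)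
  (hπ : Function.Surjective π) (hG : IsLinearlyReductive k A)

/-- A derivation at the identity of the invariants. -/
structure PtDer (D : inv π →ₗ[k] k) : Prop where
  mul : ∀ f g : inv π, D (f * g) =
    Coalgebra.counit (R := k) (f : H) * D g + Coalgebra.counit (R := k) (g : H) * D f

lemma PtDer.algebraMap {π : H →ₐc[k] A} {D : inv π →ₗ[k] k} (hD : PtDer π D) (c : k) : D (algebraMap k _ c) = 0 := by
  have h1 : D 1 = 0 := by
    have := hD.mul 1 1
    simp at this
    exact this
  rw [Algebra.algebraMap_eq_smul_one, map_smul, h1, smul_zero]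

include hG in
/-- An ideal generated by invariants meets the invariants in the ideal they generate. -/
theorem mem_of_mem_span (K : Ideal (inv π)) {j : H} (hj : j ∈ inv π)
    (hjK : j ∈ K.map (inv π).val.toRingHom) : (⟨j, hj⟩ : inv π) ∈ K := by
  letI := cR π
  haveI := hcR π
  obtain ⟨E, hE⟩ := exists_reynolds (V := H) (A := A) hG
  let S : Submodule k H := (K.restrictScalars k).map (inv π).val.toLinearMap
  suffices h : ∀ r : H, r ∈ K.map (inv π).val.toRingHom → ∀ c, E (c * r) ∈ S by
    obtain ⟨q, hq, hq1⟩ := h j hjK 1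
    rw [one_mul, (hE.fix j).mpr hj] at hq1
    have : q = ⟨j, hj⟩ := Subtype.ext hq1
    exact this ▸ hq
  intro r hr
  induction hr using Submodule.span_induction with
  | mem r hr =>
    obtain ⟨a, ha, rfl⟩ := hr
    intro c
    have hy : ((a : H)) ∈ GLin.invariants k A H := a.2
    have hm : Hoch.IsComodHom A (LinearMap.mulRight k (a : H)) := by
      refine LinearMap.ext fun x => ?_
      simp only [LinearMap.comp_apply, LinearMap.mulRight_apply]
      rw [GLin.IsCoactAlg.coact_mul, (GLin.mem_invariants_iff k A H _).mp hy]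
      induction Comod.coact (k := k) (A := A) x with
      | zero => simp
      | tmul m a => simp [Algebra.TensorProduct.tmul_mul_tmul]
      | add p q hp hq => simp [add_mul, hp, hq]
    have : E (c * (a : H)) = E c * (a : H) := LinearMap.congr_fun (hE.comp_comm hG hE hm) c
    exact ⟨a * ⟨E c, hE.mem c⟩, K.mul_mem_right _ ha,
      by rw [show E (c * (inv π).val.toRingHom a) = _ from this]; exact mul_comm _ _⟩
  | zero => intro c; simp
  | add p q _ _ hp hq => intro c; rw [mul_add, map_add]; exact S.add_mem (hp c) (hq c)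
  | smul b p _ hp => intro c; rw [smul_eq_mul, ← mul_assoc]; exact hp _

include hπ hG in
/-- A derivation of the invariants at the identity extends to the group. -/
theorem exists_extend (D : inv π →ₗ[k] k) (hD : PtDer π D) :
    ∃ δ : H →ₗ[k] k, (∀ a b : H, δ (a * b) =
        Coalgebra.counit (R := k) a * δ b + Coalgebra.counit (R := k) b * δ a) ∧
      ∀ f : inv π, δ f = D f := by
  classical
  rcases eq_or_ne D 0 with rfl | hne
  · exact ⟨0, by simp, by simp⟩
  obtain ⟨b₁, hb₁, hDb₁⟩ : ∃ b : inv π, Coalgebra.counit (R := k) (b : H) = 0 ∧ D b = 1 := by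
    obtain ⟨f, hf⟩ : ∃ f, D f ≠ 0 := by
      by_contra! h
      exact hne (LinearMap.ext h)
    refine ⟨(D f)⁻¹ • (f - algebraMap k _ (Coalgebra.counit (R := k) (f : H))), ?_, ?_⟩
    · simp
    · rw [map_smul, map_sub, hD.algebraMap, sub_zero, smul_eq_mul, inv_mul_cancel₀ hf]
  let K : Ideal (inv π) :=
    { carrier := {f | Coalgebra.counit (R := k) (f : H) = 0 ∧ D f = 0}
      add_mem' := fun {a b} ha hb => ⟨by simp [ha.1, hb.1], by simp [ha.2, hb.2]⟩
      zero_mem' := ⟨by simp, by simp⟩
      smul_mem' := fun c x hx => ⟨by simp [hx.1], by simp [smul_eq_mul, hD.mul, hx.1, hx.2]⟩ }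
  let J : Ideal H := K.map (inv π).val.toRingHom
  set I : Ideal H := RingHom.ker (π : H →ₐ[k] A) with hIdef
  have hIeq : I = invIdeal π := ker_eq_invIdeal π hπ hG
  have hdec : ∀ f : inv π, (f : H) - algebraMap k H (Coalgebra.counit (R := k) (f : H)) - D f • (b₁ : H) ∈ J := by
    intro f
    let g : inv π := f - algebraMap k _ (Coalgebra.counit (R := k) (f : H)) - D f • b₁
    have hg : g ∈ K := ⟨by simp [g, hb₁], by simp [g, hD.algebraMap, hDb₁]⟩
    exact Ideal.mem_map_of_mem (inv π).val.toRingHom hg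
  have hb₁J : (b₁ : H) ∉ J := fun h => by
    have h2 : D b₁ = 0 := (mem_of_mem_span π hG K b₁.2 h).2
    rw [hDb₁] at h2
    exact one_ne_zero h2
  have hI : I ≤ Ideal.span {(b₁ : H)} ⊔ J := by
    rw [hIeq]
    refine Ideal.span_le.2 ?_
    rintro _ ⟨f, rfl⟩
    show (f : H) - algebraMap k H (Coalgebra.counit (R := k) (f : H)) ∈ Ideal.span {(b₁ : H)} ⊔ J
    rw [show (f : H) - algebraMap k H (Coalgebra.counit (R := k) (f : H)) = D f • (b₁ : H) +
      ((f : H) - algebraMap k H (Coalgebra.counit (R := k) (f : H)) - D f • (b₁ : H)) by abel]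
    refine add_mem (Ideal.mem_sup_left ?_) (Ideal.mem_sup_right (hdec f))
    rw [Algebra.smul_def]
    exact Ideal.mul_mem_left _ _ (Ideal.mem_span_singleton_self _)
  have hb₁I : (b₁ : H) ∈ I := by
    show (π : H →ₐ[k] A) b₁ = 0
    exact (π_of_mem π b₁.2).trans (by rw [hb₁, map_zero])
  have hb₁sq : (b₁ : H) * b₁ ∈ J :=
    Ideal.mem_map_of_mem (inv π).val.toRingHom (x := b₁ * b₁) ⟨by simp [hb₁], by simp [hD.mul, hb₁]⟩
  have hIb : ∀ x ∈ I, (b₁ : H) * x ∈ J := by
    intro x hx
    obtain ⟨u, hu, j, hj, rfl⟩ := Submodule.mem_sup.1 (hI hx)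
    obtain ⟨r, rfl⟩ := Ideal.mem_span_singleton'.1 hu
    rw [mul_add, show (b₁ : H) * (r * b₁) = r * (b₁ * b₁) by ring]
    exact add_mem (Ideal.mul_mem_left _ _ hb₁sq) (Ideal.mul_mem_left _ _ hj)
  -- the annihilator of `b₁` modulo `J` is the subgroup
  have hann : ∀ y : H, (b₁ : H) * y ∈ J → y ∈ I := by
    intro y hy
    by_contra hyI
    let J' : Ideal H := J.colon {(b₁ : H)}
    have hmem : ∀ z, z ∈ J' ↔ (b₁ : H) * z ∈ J := fun z => by
      rw [Submodule.mem_colon_singleton, smul_eq_mul, mul_comm]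
    have hne' : J' ≠ ⊤ := fun h => hb₁J (by
      have := (hmem 1).1 (h ▸ Submodule.mem_top)
      rwa [mul_one] at this)
    obtain ⟨z, hz⟩ := Comodule.exists_point (k := k) hne'
    obtain ⟨γ₀, hγ₀⟩ := exists_push π hπ (toConv z) fun a ha => hz ((hmem a).2 (hIb a ha))
    refine hyI (FreeOrbH28.ext_points (k := k) (A := A) fun γ => ?_)
    rw [map_zero]
    set g := (push π γ₀)⁻¹ * push π (toConv γ) with hg
    have hfix : ∀ f : inv π, OrbitFlatH28.rtr g (f : H) = f := fun f => by
      refine FreeOrbH28.ext_points (k := k) fun p => ?_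
      show (toConv p).ofConv _ = (toConv p).ofConv _
      have hinv : (push π γ₀)⁻¹ = push π γ₀⁻¹ := (eq_inv_of_mul_eq_one_left (by
        rw [← push_mul, inv_mul_cancel, push_one])).symm
      rw [OrbitFlatH28.apply_rtr, hg, hinv, ← push_mul, apply_mul_push π f.2]
    have hJ : J ≤ J.comap (OrbitFlatH28.rtr g) := by
      refine Ideal.map_le_iff_le_comap.2 fun f hf => ?_
      rw [Ideal.mem_comap, Ideal.mem_comap]
      show OrbitFlatH28.rtr g (f : H) ∈ J
      rw [hfix]
      exact Ideal.mem_map_of_mem (inv π).val.toRingHom hf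
    have h2 : OrbitFlatH28.rtr g y ∈ J' := by
      rw [hmem, ← hfix b₁, ← map_mul]
      exact hJ hy
    have h3 : z (OrbitFlatH28.rtr g y) = 0 := hz h2
    have h4 := OrbitFlatH28.apply_rtr g (toConv z) y
    rw [WithConv.ofConv_toConv, h3] at h4
    rw [hg, ← hγ₀, ← mul_assoc, mul_inv_cancel, one_mul, push_apply] at h4
    exact h4.symm
  -- the functional on the ideal
  have hrep : ∀ x : I, ∃ r : H, (x : H) - r * b₁ ∈ J := fun x => by
    obtain ⟨u, hu, j, hj, e⟩ := Submodule.mem_sup.1 (hI x.2)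
    obtain ⟨r, rfl⟩ := Ideal.mem_span_singleton'.1 hu
    exact ⟨r, by rw [← e]; simpa using hj⟩
  choose r hr using hrep
  let e : I → k := fun x => Coalgebra.counit (R := k) (r x)
  have hI0 : ∀ x ∈ I, Coalgebra.counit (R := k) x = 0 := fun x hx => by
    have hx' : π x = 0 := hx
    rw [← CoalgHomClass.counit_comp_apply π, hx', map_zero]
  have he : ∀ (x : I) (s : H), (x : H) - s * b₁ ∈ J → e x = Coalgebra.counit (R := k) s := by
    intro x s hs
    have h := sub_mem hs (hr x)
    rw [show (x : H) - s * b₁ - ((x : H) - r x * b₁) = (b₁ : H) * (r x - s) by ring] at h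
    have := hI0 _ (hann _ h)
    rw [map_sub, sub_eq_zero] at this
    exact this
  -- a section
  haveI : Algebra.Smooth k A := EqZMT28.smooth_hopf k A
  have hsq : ∀ x ∈ I, ∀ y ∈ I, x * y ∈ J := by
    intro x hx y hy
    obtain ⟨u, hu, j, hj, rfl⟩ := Submodule.mem_sup.1 (hI hy)
    obtain ⟨t, rfl⟩ := Ideal.mem_span_singleton'.1 hu
    rw [mul_add, show x * (t * (b₁ : H)) = t * (b₁ * x) by ring]
    exact add_mem (Ideal.mul_mem_left _ _ (hIb x hx)) (Ideal.mul_mem_left _ _ hj)
  have hJI : J ≤ I := Ideal.map_le_iff_le_comap.2 fun f hf => by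
    show (π : H →ₐ[k] A) (f : H) = 0
    exact (π_of_mem π f.2).trans (by rw [hf.1, map_zero])
  let p : H ⧸ J →ₐ[k] A := Ideal.Quotient.liftₐ J (π : H →ₐ[k] A) fun a ha => hJI ha
  have hp : Function.Surjective p := fun a => by
    obtain ⟨x, rfl⟩ := hπ a
    exact ⟨Ideal.Quotient.mk J x, rfl⟩
  have hpn : IsNilpotent (RingHom.ker (p : H ⧸ J →+* A)) := by
    refine ⟨2, ?_⟩
    rw [pow_two, Ideal.zero_eq_bot, eq_bot_iff, Ideal.mul_le]
    intro x hx y hy
    obtain ⟨x, rfl⟩ := Ideal.Quotient.mk_surjective x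
    obtain ⟨y, rfl⟩ := Ideal.Quotient.mk_surjective y
    rw [Ideal.mem_bot, ← map_mul, Ideal.Quotient.eq_zero_iff_mem]
    exact hsq x hx y hy
  let σ : A →ₐ[k] H ⧸ J := Algebra.FormallySmooth.liftOfSurjective (AlgHom.id k A) p hp hpn
  have hσ : ∀ a, p (σ a) = a := fun a =>
    AlgHom.congr_fun (Algebra.FormallySmooth.comp_liftOfSurjective (AlgHom.id k A) p hp hpn) a
  choose sec hsec using fun h : H => Ideal.Quotient.mk_surjective (σ (π h))
  have hsI : ∀ h, h - sec h ∈ I := fun h => by
    have h1 : (π : H →ₐ[k] A) (sec h) = π h := by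
      have := hσ (π h)
      rw [← hsec h] at this
      exact this
    show (π : H →ₐ[k] A) (h - sec h) = 0
    rw [map_sub, h1]
    exact sub_self _
  let δ : H → k := fun h => e ⟨h - sec h, hsI h⟩
  have hδ : ∀ h s : H, (h - sec h) - s * b₁ ∈ J → δ h = Coalgebra.counit (R := k) s := fun h s hs => he _ s hs
  have hδadd : ∀ a b, δ (a + b) = δ a + δ b := fun a b => by
    refine (hδ _ (r ⟨a - sec a, hsI a⟩ + r ⟨b - sec b, hsI b⟩) ?_).trans (map_add _ _ _)
    have h1 : sec (a + b) - (sec a + sec b) ∈ J := by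
      rw [← Ideal.Quotient.eq, map_add, hsec, hsec, hsec, map_add, map_add]
    have h2 := sub_mem (add_mem (hr ⟨a - sec a, hsI a⟩) (hr ⟨b - sec b, hsI b⟩)) h1
    convert h2 using 1
    ring
  have hδsmul : ∀ (c : k) a, δ (c • a) = c • δ a := fun c a => by
    refine (hδ _ (c • r ⟨a - sec a, hsI a⟩) ?_).trans (map_smul _ _ _)
    have h1 : sec (c • a) - c • sec a ∈ J := by
      rw [← Ideal.Quotient.eq, hsec, map_smul, map_smul, ← hsec]
      rfl
    have h2 := sub_mem (Ideal.mul_mem_left J (algebraMap k H c) (hr ⟨a - sec a, hsI a⟩)) h1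
    convert h2 using 1
    simp only [Algebra.smul_def]
    ring
  refine ⟨{ toFun := δ, map_add' := hδadd, map_smul' := hδsmul }, fun a b => ?_, fun f => ?_⟩
  · show δ (a * b) = _
    refine (hδ _ (r ⟨a - sec a, hsI a⟩ * b + sec a * r ⟨b - sec b, hsI b⟩) ?_).trans ?_
    · have h1 : sec (a * b) - sec a * sec b ∈ J := by
        rw [← Ideal.Quotient.eq, map_mul (Ideal.Quotient.mk J), hsec, hsec, hsec, map_mul, map_mul]
      have h2 := sub_mem (add_mem (Ideal.mul_mem_left J b (hr ⟨a - sec a, hsI a⟩))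
        (Ideal.mul_mem_left J (sec a) (hr ⟨b - sec b, hsI b⟩))) h1
      convert h2 using 1
      ring
    · have hs : Coalgebra.counit (R := k) (sec a) = Coalgebra.counit (R := k) a := by
        have := hI0 _ (hsI a)
        rw [map_sub, sub_eq_zero] at this
        exact this.symm
      simp only [map_add, Bialgebra.counit_mul, hs, LinearMap.coe_mk, AddHom.coe_mk, δ, e]
      ring
  · show δ f = D f
    refine (hδ _ (algebraMap k H (D f)) ?_).trans (Bialgebra.counit_algebraMap _)
    have h1 : sec f - algebraMap k H (Coalgebra.counit (R := k) (f : H)) ∈ J := by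
      rw [← Ideal.Quotient.eq, hsec, π_of_mem π f.2, AlgHom.commutes]
      rfl
    have h2 := sub_mem (hdec f) h1
    convert h2 using 1
    rw [Algebra.smul_def]
    ring

end Groth.Agent.HM15
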