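import Groth.Agent.Lib.HM15.Pts
import Groth.Agent.Lib.HM15.Tangent
import Groth.Agent.Lib.Comodule.Laurent
import Mathlib.Algebra.DualNumber
import Mathlib.Algebra.Polynomial.AlgebraMap
import Mathlib.RingTheory.Nilpotent.Basic

/-!
# Retracting onto a fixed coset along a diagonal one-parameter subgroup
-/

open TensorProduct HopfRep WithConv CoordGrp LaurentPolynomial

universe u

noncomputable section

namespace Groth.Agent.HM15

set_option linter.unusedSectionVars false
set_option linter.style.haveILetI false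

attribute [local instance] finiteType_GLn'

variable {k : Type u} [Field k] {N : ℕ}

/-- Evaluation of a Laurent polynomial. -/
def evL (s : kˣ) : k[T;T⁻¹] →ₐ[k] k where
  toRingHom := LaurentPolynomial.eval₂ (RingHom.id k) s
  commutes' c := LaurentPolynomial.eval₂_C _ _ c

lemma evL_T (s : kˣ) (n : ℤ) : evL s (T n) = ((s ^ n : kˣ) : k) := LaurentPolynomial.eval₂_T _ _ _

lemma evL_C (s : kˣ) (c : k) : evL s (C c) = c := LaurentPolynomial.eval₂_C _ _ _

/-- The substitution `T ↦ s T`. -/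
def scaleL (s : kˣ) : k[T;T⁻¹] →ₐ[k] k[T;T⁻¹] :=
  AddMonoidAlgebra.lift k k[T;T⁻¹] ℤ
    { toFun := fun n => C ((s ^ n.toAdd : kˣ) : k) * T n.toAdd
      map_one' := by simp
      map_mul' := fun a b => by
        simp only [toAdd_mul, zpow_add, Units.val_mul, map_mul, T_add]
        ring }

lemma scaleL_single (s : kˣ) (n : ℤ) (c : k) :
    scaleL s (AddMonoidAlgebra.single n c) = AddMonoidAlgebra.single n (c * ((s ^ n : kˣ) : k)) := by
  rw [scaleL, AddMonoidAlgebra.lift_single, single_eq_C_mul_T, LaurentPolynomial.smul_eq_C_mul]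
  simp [mul_assoc]

lemma coeff_scaleL (s : kˣ) (p : k[T;T⁻¹]) (n : ℤ) :
    (scaleL s p).coeff n = p.coeff n * ((s ^ n : kˣ) : k) := by
  classical
  induction p using AddMonoidAlgebra.induction_linear with
  | zero => simp
  | add p q hp hq => simp [map_add, hp, hq, add_mul]
  | single m r =>
    rw [scaleL_single, AddMonoidAlgebra.coeff_single, AddMonoidAlgebra.coeff_single, Finsupp.single_apply,
      Finsupp.single_apply]
    split_ifs with h <;> simp [h]

/-- A Laurent polynomial vanishing at all points is zero. -/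
lemma eq_zero_of_evL [Infinite k] {p : k[T;T⁻¹]} (h : ∀ s, evL s p = 0) : p = 0 := by
  obtain ⟨n, f, hf⟩ := p.exists_T_pow
  have hf0 : f = 0 := by
    refine Polynomial.eq_zero_of_infinite_isRoot f (Set.Infinite.mono (s := {t : k | t ≠ 0}) (fun t ht => ?_)
      (Set.finite_singleton (0 : k)).infinite_compl)
    have := congrArg (evL (Units.mk0 t ht)) hf
    rw [map_mul, h, zero_mul] at this
    show f.eval t = 0
    rw [← this]
    exact (LaurentPolynomial.eval₂_toLaurent (RingHom.id k) (Units.mk0 t ht) f).symm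
  rw [hf0, map_zero] at hf
  exact (isUnit_T (n : ℤ)).mul_left_eq_zero.1 hf.symm

variable (μ : Fin N → ℤ)

/-- The diagonal one-parameter subgroup. -/
def dM : Matrix (Fin N) (Fin N) k[T;T⁻¹] := Matrix.diagonal fun i => T (μ i)

lemma isUnit_det_dM : IsUnit (dM (k := k) μ).det := by
  rw [dM, Matrix.det_diagonal]
  exact IsUnit.prod_iff.2 fun i _ => isUnit_T _

/-- The orbit of a point. -/
def path (p : GLn N k →ₐ[k] k) : GLn N k →ₐ[k] k[T;T⁻¹] :=
  ptu (dM μ * (mtx p).map (algebraMap k _)) (by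
    rw [Matrix.det_mul, ← RingHom.mapMatrix_apply, ← RingHom.map_det]
    exact (isUnit_det_dM μ).mul ((isUnit_det_mtx p).map _))

/-- The value of the subgroup. -/
def dPt (s : kˣ) : WithConv (GLn N k →ₐ[k] k) :=
  toConv (ptu (Matrix.diagonal fun i => ((s ^ μ i : kˣ) : k)) (by
    rw [Matrix.det_diagonal]; exact IsUnit.prod_iff.2 fun i _ => Units.isUnit _))

variable [IsAlgClosed k] [CharZero k]

lemma evL_path (s : kˣ) (p : GLn N k →ₐ[k] k) : (evL s).comp (path μ p) = (dPt μ s * toConv p).ofConv := by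
  refine ext_mtx (Matrix.ext fun i j => ?_)
  rw [mtx_mul]
  simp [path, dM, dPt, Matrix.diagonal_mul, evL_T, evL_C]
  ring

lemma path_tr_dPt (s : kˣ) (p : GLn N k →ₐ[k] k) (f : GLn N k) :
    path μ p (FreeOrbH28.tr (dPt μ s) f) = scaleL s (path μ p f) := by
  refine (apply_tr_R (dPt μ s) (path μ p) f ((scaleL s).comp (path μ p)) (Matrix.ext fun i j => ?_))
  simp only [path, mtx_comp, mtx_ptu, Matrix.map_apply, dPt, WithConv.ofConv_toConv, dM,
    Matrix.diagonal_mul, map_mul, AlgHom.commutes, Matrix.diagonal_map (map_zero (algebraMap k k[T;T⁻¹]))]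
  rw [show (T (μ i) : k[T;T⁻¹]) = AddMonoidAlgebra.single (μ i) 1 from rfl, scaleL_single, one_mul,
    single_eq_C_mul_T _ (μ i), single_eq_C_mul_T (1 : k) (μ i)]
  simp [mul_assoc, LaurentPolynomial.algebraMap_apply]

variable {A : Type u} [CommRing A] [HopfAlgebra k A] [Algebra.FiniteType k A] (π : GLn N k →ₐc[k] A)

/-- The orbit has a limit in the coset space. -/
def Good (p : GLn N k →ₐ[k] k) : Prop := ∀ f ∈ inv π, Comodule.NoNeg (path μ p f)

/-- The limit. -/
lemma exists_limit {p : GLn N k →ₐ[k] k} (hp : Good μ π p) (hG : IsLinearlyReductive k A) :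
    ∃ h₀ : WithConv (GLn N k →ₐ[k] k), ∀ f ∈ inv π, h₀.ofConv f = (path μ p f).coeff 0 := by
  let P : inv π →ₐ[k] Polynomial k := AlgHom.ofLinearMap
    { toFun := fun f => LaurentPolynomial.trunc (path μ p f)
      map_add' := fun f g => by simp
      map_smul' := fun c f => Polynomial.toLaurent_injective (by
        have h1 := Comodule.noNeg_iff.1 (hp _ (c • f).2)
        have h2 := Comodule.noNeg_iff.1 (hp _ f.2)
        rw [h1, RingHom.id_apply, Polynomial.smul_eq_C_mul, map_mul, h2, Polynomial.toLaurent_C, Subalgebra.coe_smul,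
          map_smul, LaurentPolynomial.smul_eq_C_mul]) }
    (Polynomial.toLaurent_injective (by
      show Polynomial.toLaurent (LaurentPolynomial.trunc (path μ p ((1 : inv π) : GLn N k))) = _
      rw [Comodule.noNeg_iff.1 (hp _ (1 : inv π).2)]
      simp))
    fun f g => Polynomial.toLaurent_injective (by
      show Polynomial.toLaurent (LaurentPolynomial.trunc (path μ p ((f * g : inv π) : GLn N k))) = _
      rw [Comodule.noNeg_iff.1 (hp _ (f * g).2), map_mul]
      show _ = Polynomial.toLaurent (LaurentPolynomial.trunc (path μ p (f : GLn N k))) *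
        Polynomial.toLaurent (LaurentPolynomial.trunc (path μ p (g : GLn N k)))
      rw [Comodule.noNeg_iff.1 (hp _ f.2), Comodule.noNeg_iff.1 (hp _ g.2), MulMemClass.coe_mul, map_mul])
  obtain ⟨h₀, hh₀⟩ := exists_lift π hG ((Polynomial.aeval (0 : k)).comp P)
  refine ⟨h₀, fun f hf => (hh₀ ⟨f, hf⟩).trans ?_⟩
  rw [AlgHom.comp_apply, ← Polynomial.coeff_zero_eq_aeval_zero]
  exact Comodule.coeff_zero_trunc _

/-- The derivation at `h₀` along a matrix. -/
def tanPt (η : Matrix (Fin N) (Fin N) k) (h₀ : GLn N k →ₐ[k] k) : GLn N k →ₐ[k] DualNumber k :=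
  ptu ((1 + (DualNumber.eps : DualNumber k) • η.map (algebraMap k (DualNumber k))) * (mtx h₀).map (algebraMap k (DualNumber k))) (by
    rw [Matrix.det_mul, ← RingHom.mapMatrix_apply (algebraMap k (DualNumber k)) (mtx h₀), ← RingHom.map_det]
    refine IsUnit.mul ((Matrix.isUnit_iff_isUnit_det _).1 (IsNilpotent.isUnit_one_add ⟨2, ?_⟩))
      ((isUnit_det_mtx h₀).map _)
    rw [pow_two, smul_mul_smul_comm, DualNumber.eps_mul_eps, zero_smul])

/-- A derivation at a point. -/
structure DerAt (h : GLn N k →ₐ[k] k) (δ : GLn N k →ₗ[k] k) : Prop where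
  mul : ∀ a b, δ (a * b) = h a * δ b + h b * δ a

lemma DerAt.ext' {h : GLn N k →ₐ[k] k} {δ δ' : GLn N k →ₗ[k] k} (hδ : DerAt h δ) (hδ' : DerAt h δ')
    (hX : ∀ i j, δ (GLn.X i j) = δ' (GLn.X i j)) : δ = δ' := by
  have hc : ∀ {δ : GLn N k →ₗ[k] k}, DerAt h δ → ∀ c, δ (algebraMap k _ c) = 0 := fun {δ} hδ c => by
    have h1 : δ 1 = 0 := by simpa using hδ.mul 1 1
    rw [Algebra.algebraMap_eq_smul_one, map_smul, h1, smul_zero]
  have hsub : DerAt h (δ - δ') := ⟨fun a b => by simp [hδ.mul, hδ'.mul]; ring⟩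
  have hX0 : ∀ i j, (δ - δ') (GLn.X i j) = 0 := fun i j => by simp [hX]
  let S : Subalgebra k (GLn N k) :=
    { carrier := {a | (δ - δ') a = 0}
      mul_mem' := fun {a b} ha hb => by
        show (δ - δ') (a * b) = 0
        rw [hsub.mul, show (δ - δ') a = 0 from ha, show (δ - δ') b = 0 from hb, mul_zero, mul_zero, add_zero]
      add_mem' := fun {a b} ha hb => by
        show (δ - δ') (a + b) = 0
        rw [map_add, show (δ - δ') a = 0 from ha, show (δ - δ') b = 0 from hb, add_zero]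
      algebraMap_mem' := hc hsub }
  have hdet : GLn.det ∈ S := by
    rw [GLn.det_eq, Matrix.det_apply]
    exact sum_mem fun σ _ => zsmul_mem (prod_mem fun i _ => hX0 _ _) _
  have hD : GLn.Dinv ∈ S := by
    have h1 := hsub.mul GLn.Dinv GLn.det
    rw [GLn.Dinv_mul_det, show (δ - δ') GLn.det = 0 from hdet, mul_zero, zero_add,
      show (δ - δ') 1 = 0 by simpa using hc hsub 1] at h1
    refine ((mul_eq_zero.1 h1.symm).resolve_left fun h0 => ?_)
    have := congrArg h (GLn.Dinv_mul_det (n := N) (k := k))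
    rw [map_mul, h0, mul_zero, map_one] at this
    exact zero_ne_one this
  refine LinearMap.ext fun f => sub_eq_zero.1 (show f ∈ S from ?_)
  induction f using gln_induction with
  | hC c => exact S.algebraMap_mem c
  | hadd a b ha hb => exact S.add_mem ha hb
  | hX a i j ha => exact S.mul_mem ha (hX0 i j)
  | hD a ha => exact S.mul_mem ha hD

/-- The derivation at `h₀` along a matrix, as a functional. -/
def tanDer (η : Matrix (Fin N) (Fin N) k) (h₀ : GLn N k →ₐ[k] k) : GLn N k →ₗ[k] k :=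
  (TrivSqZeroExt.sndHom k k).comp (tanPt η h₀).toLinearMap

lemma fst_tanPt (η : Matrix (Fin N) (Fin N) k) (h₀ : GLn N k →ₐ[k] k) :
    (TrivSqZeroExt.fstHom k k k).comp (tanPt η h₀) = h₀ := by
  refine ext_mtx (Matrix.ext fun i j => ?_)
  rw [mtx_comp, Matrix.map_apply, tanPt, mtx_ptu, Matrix.mul_apply, map_sum, Finset.sum_eq_single i]
  · simp [TrivSqZeroExt.algebraMap_eq_inl, Matrix.smul_apply, smul_eq_mul]
  · intro l _ hl
    simp [Ne.symm hl, TrivSqZeroExt.algebraMap_eq_inl, Matrix.smul_apply, smul_eq_mul]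
  · simp

lemma derAt_tanDer (η : Matrix (Fin N) (Fin N) k) (h₀ : GLn N k →ₐ[k] k) : DerAt h₀ (tanDer η h₀) := by
  refine ⟨fun a b => ?_⟩
  have ha : ∀ a, (tanPt η h₀ a).fst = h₀ a := fun a => AlgHom.congr_fun (fst_tanPt η h₀) a
  simp only [tanDer, LinearMap.comp_apply, AlgHom.toLinearMap_apply, map_mul, TrivSqZeroExt.sndHom_apply,
    DualNumber.snd_mul, ha]
  ring

lemma tanDer_X (η : Matrix (Fin N) (Fin N) k) (h₀ : GLn N k →ₐ[k] k) (i j : Fin N) :
    tanDer η h₀ (GLn.X i j) = (η * mtx h₀) i j := by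
  simp only [tanDer, LinearMap.comp_apply, AlgHom.toLinearMap_apply, TrivSqZeroExt.sndHom_apply, tanPt, ptu_X]
  rw [add_mul, one_mul, smul_mul_assoc, ← Matrix.map_mul]
  simp [TrivSqZeroExt.algebraMap_eq_inl, Matrix.smul_apply, smul_eq_mul]

lemma tanDer_sum (η : Matrix (Fin N) (Fin N) k) (h₀ : GLn N k →ₐ[k] k) :
    tanDer η h₀ = ∑ i, ∑ j, η i j • tanDer (Matrix.single i j (1 : k)) h₀ := by
  classical
  refine (derAt_tanDer η h₀).ext' ⟨fun a b => ?_⟩ fun i j => ?_
  · simp only [LinearMap.sum_apply, LinearMap.smul_apply, smul_eq_mul, (derAt_tanDer _ h₀).mul, Finset.mul_sum,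
      ← Finset.sum_add_distrib]
    exact Finset.sum_congr rfl fun i _ => Finset.sum_congr rfl fun j _ => by ring
  · simp only [LinearMap.sum_apply, LinearMap.smul_apply, smul_eq_mul, tanDer_X]
    refine Eq.symm ((Finset.sum_eq_single i ?_ ?_).trans ?_)
    · intro l _ hl
      exact Finset.sum_eq_zero fun l' _ => by rw [Matrix.single_mul_apply_of_ne _ _ _ _ _ (Ne.symm hl), mul_zero]
    · simp
    · rw [Matrix.mul_apply]
      exact Finset.sum_congr rfl fun l _ => by rw [Matrix.single_mul_apply_same, one_mul]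

/-- Directions of weight `m`. -/
def WtMat (m : ℤ) (η : Matrix (Fin N) (Fin N) k) : Prop := ∀ i j, η i j ≠ 0 → μ i - μ j = m

lemma wt_pow {μ : Fin N → ℤ} {m : ℤ} {η : Matrix (Fin N) (Fin N) k} (hη : WtMat μ m η) (n : ℕ) :
    WtMat μ (n * m) (η ^ n) := by
  classical
  induction n with
  | zero =>
    intro i j h
    rcases eq_or_ne i j with rfl | hij
    · simp
    · exact absurd (by simp [hij]) h
  | succ n ih =>
    intro i j h
    rw [pow_succ, Matrix.mul_apply] at h
    obtain ⟨l, -, hl⟩ := Finset.exists_ne_zero_of_sum_ne_zero h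
    have h1 := ih i l (left_ne_zero_of_mul hl)
    have h2 := hη l j (right_ne_zero_of_mul hl)
    push_cast
    linarith

lemma isNilpotent_wt {μ : Fin N → ℤ} {m : ℤ} (hm : 0 < m) {η : Matrix (Fin N) (Fin N) k} (hη : WtMat μ m η) :
    IsNilpotent η := by
  obtain ⟨K, hK⟩ : ∃ K : ℕ, ∀ i j, μ i - μ j < K := by
    refine ⟨∑ i, ∑ j, (μ i - μ j).natAbs + 1, fun i j => ?_⟩
    have h1 : (μ i - μ j).natAbs ≤ ∑ j, (μ i - μ j).natAbs :=
      Finset.single_le_sum (f := fun j => (μ i - μ j).natAbs) (fun _ _ => Nat.zero_le _) (Finset.mem_univ j)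
    have h2 : ∑ j, (μ i - μ j).natAbs ≤ ∑ i, ∑ j, (μ i - μ j).natAbs :=
      Finset.single_le_sum (f := fun i => ∑ j, (μ i - μ j).natAbs) (fun _ _ => Nat.zero_le _) (Finset.mem_univ i)
    omega
  refine ⟨K, Matrix.ext fun i j => by_contra fun h => ?_⟩
  have h1 := wt_pow hη K i j h
  have h2 := hK i j
  nlinarith

/-- A derivation along the orbit. -/
lemma exists_wt_direction (hπ : Function.Surjective π) (hG : IsLinearlyReductive k A) {p : GLn N k →ₐ[k] k}
    (hp : Good μ π p) {m : ℕ} (hm : 0 < m)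
    (hlow : ∀ f ∈ inv π, ∀ n : ℤ, 0 < n → n < m → (path μ p f).coeff n = 0)
    (h₀ : WithConv (GLn N k →ₐ[k] k)) (hh₀ : ∀ f ∈ inv π, h₀.ofConv f = (path μ p f).coeff 0) :
    ∃ η : Matrix (Fin N) (Fin N) k, WtMat μ m η ∧
      ∀ f ∈ inv π, (path μ p f).coeff (m : ℤ) = tanDer η h₀.ofConv f := by
  classical
  -- the coefficient is a derivation
  have hP : ∀ f ∈ inv π, ∀ i : ℕ, 0 < i → i < m → (LaurentPolynomial.trunc (path μ p f)).coeff i = 0 := by
    intro f hf i hi him
    have := hlow f hf i (by exact_mod_cast hi) (by exact_mod_cast him)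
    rw [← Comodule.noNeg_iff.1 (hp f hf), Comodule.coeff_toLaurent] at this
    simpa using this
  have hcoef : ∀ f ∈ inv π, ∀ i : ℕ, (path μ p f).coeff (i : ℤ) = (LaurentPolynomial.trunc (path μ p f)).coeff i := by
    intro f hf i
    conv_lhs => rw [← Comodule.noNeg_iff.1 (hp f hf), Comodule.coeff_toLaurent]
    simp
  have hmul : ∀ f ∈ inv π, ∀ g ∈ inv π, (path μ p (f * g)).coeff (m : ℤ) =
      h₀.ofConv f * (path μ p g).coeff (m : ℤ) + h₀.ofConv g * (path μ p f).coeff (m : ℤ) := by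
    intro f hf g hg
    have e : LaurentPolynomial.trunc (path μ p (f * g)) =
        LaurentPolynomial.trunc (path μ p f) * LaurentPolynomial.trunc (path μ p g) :=
      Polynomial.toLaurent_injective (by
        rw [Comodule.noNeg_iff.1 (hp _ (mul_mem hf hg)), map_mul, map_mul, Comodule.noNeg_iff.1 (hp _ hf),
          Comodule.noNeg_iff.1 (hp _ hg)])
    rw [hcoef _ (mul_mem hf hg), hcoef f hf, hcoef g hg, hh₀ f hf, hh₀ g hg,
      show (0 : ℤ) = ((0 : ℕ) : ℤ) from rfl, hcoef f hf, hcoef g hg, e, Polynomial.coeff_mul]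
    rw [Finset.sum_eq_add (0, m) (m, 0) (by simp [hm.ne]) ?_ (by simp) (by simp)]
    · ring
    · rintro ⟨a, b⟩ hab ⟨h1, h2⟩
      rw [Finset.mem_antidiagonal] at hab
      have ha : a ≠ 0 := fun h => h1 (by subst h; simp at hab; subst hab; rfl)
      have hb : b ≠ 0 := fun h => h2 (by subst h; simp at hab; subst hab; rfl)
      rw [hP f hf a (Nat.pos_of_ne_zero ha) (by omega), zero_mul]
  -- moved to the identity
  have htr : ∀ f : GLn N k, FreeOrbH28.tr h₀⁻¹ (FreeOrbH28.tr h₀ f) = f := fun f =>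
    FreeOrbH28.ext_points (k := k) fun q => by
      show (toConv q).ofConv _ = (toConv q).ofConv f
      rw [FreeOrbH28.apply_tr, FreeOrbH28.apply_tr, ← mul_assoc, mul_inv_cancel, one_mul]
  have htrc : ∀ f : GLn N k, h₀.ofConv (FreeOrbH28.tr h₀⁻¹ f) = Coalgebra.counit (R := k) f := fun f => by
    rw [FreeOrbH28.apply_tr, inv_mul_cancel, AlgHom.convOne_apply]
    simp
  let D : inv π →ₗ[k] k :=
    { toFun := fun f => (path μ p (FreeOrbH28.tr h₀⁻¹ (f : GLn N k))).coeff (m : ℤ)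
      map_add' := fun f g => by simp
      map_smul' := fun c f => by simp [map_smul] }
  have hD : PtDer π D := ⟨fun f g => by
    show (path μ p (FreeOrbH28.tr h₀⁻¹ ((f : GLn N k) * g))).coeff (m : ℤ) = _
    rw [map_mul (FreeOrbH28.tr h₀⁻¹), hmul _ (tr_mem_inv π f.2 _) _ (tr_mem_inv π g.2 _), htrc, htrc]
    rfl⟩
  obtain ⟨δ, hδ, hδD⟩ := exists_extend π hπ hG D hD
  let δ₀ : GLn N k →ₗ[k] k := δ.comp (FreeOrbH28.tr h₀).toLinearMap
  have hcounit : ∀ f : GLn N k, Coalgebra.counit (R := k) (FreeOrbH28.tr h₀ f) = h₀.ofConv f := fun f => by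
    have := FreeOrbH28.apply_tr h₀ (1 : WithConv (GLn N k →ₐ[k] k)) f
    rw [mul_one, AlgHom.convOne_apply] at this
    simpa using this
  have hδ₀ : DerAt h₀.ofConv δ₀ := ⟨fun a b => by
    simp only [δ₀, LinearMap.comp_apply, AlgHom.toLinearMap_apply, map_mul (FreeOrbH28.tr h₀), hδ, hcounit]⟩
  let M := mtx h₀.ofConv
  obtain ⟨ζ, hζ⟩ : ∃ ζ, δ₀ = tanDer ζ h₀.ofConv := by
    refine ⟨(Matrix.of fun i j => δ₀ (GLn.X i j)) * M⁻¹, hδ₀.ext' (derAt_tanDer _ _) fun i j => ?_⟩
    rw [tanDer_X, Matrix.mul_assoc, Matrix.nonsing_inv_mul _ (isUnit_det_mtx _), Matrix.mul_one]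
    rfl
  have hDf : ∀ f ∈ inv π, (path μ p f).coeff (m : ℤ) = tanDer ζ h₀.ofConv f := by
    intro f hf
    rw [← hζ]
    show _ = δ (FreeOrbH28.tr h₀ f)
    rw [show δ (FreeOrbH28.tr h₀ f) = _ from hδD ⟨_, tr_mem_inv π hf h₀⟩]
    show _ = (path μ p (FreeOrbH28.tr h₀⁻¹ (FreeOrbH28.tr h₀ f))).coeff (m : ℤ)
    rw [htr]
  -- the weight `m` part
  let η : Matrix (Fin N) (Fin N) k := Matrix.of fun i j => if μ i - μ j = (m : ℤ) then ζ i j else 0
  refine ⟨η, fun i j h => by_contra fun h' => h (by simp [η, h']), fun f hf => ?_⟩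
  have hfix : ∀ s : kˣ, ∃ γ, push π γ = h₀⁻¹ * dPt μ s * h₀ := fun s =>
    exists_push_of_forall π hπ hG _ fun g hg => by
      have hg' := tr_mem_inv π hg h₀⁻¹
      rw [mul_assoc, ← FreeOrbH28.apply_tr, ← FreeOrbH28.apply_tr, hh₀ _ (tr_mem_inv π hg' _), path_tr_dPt,
        coeff_scaleL, ← hh₀ _ hg', htrc]
      simp
  have hscale : ∀ s : kˣ, ((s ^ (m : ℤ) : kˣ) : k) * tanDer ζ h₀.ofConv f =
      tanDer (Matrix.of fun i j => ((s ^ (μ i - μ j) : kˣ) : k) * ζ i j) h₀.ofConv f := by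
    intro s
    obtain ⟨γ, hγ⟩ := hfix s
    rw [← hDf f hf, mul_comm, ← coeff_scaleL, ← path_tr_dPt, hDf _ (tr_mem_inv π hf _)]
    show (tanPt ζ h₀.ofConv (FreeOrbH28.tr (dPt μ s) f)).snd = (tanPt _ h₀.ofConv f).snd
    congr 1
    have hdh : mtx (dPt μ s).ofConv * M = M * mtx (push π γ).ofConv := by
      rw [hγ, ← mtx_mul, ← mtx_mul, ← mul_assoc, ← mul_assoc, mul_inv_cancel, one_mul]
    let z : GLn N k →ₐ[k] DualNumber k := ptu
      ((mtx (dPt μ s).ofConv).map (algebraMap k _) * mtx (tanPt ζ h₀.ofConv)) (by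
        rw [Matrix.det_mul, ← RingHom.mapMatrix_apply, ← RingHom.map_det]
        exact ((isUnit_det_mtx _).map _).mul (isUnit_det_mtx _))
    rw [apply_tr_R (dPt μ s) (tanPt ζ h₀.ofConv) f z (mtx_ptu _ _)]
    refine apply_eq_of_mtx hf ((Algebra.ofId k _).comp γ.ofConv) ?_
    rw [AlgHom.comp_assoc, mtx_comp]
    change mtx z = _ * (mtx (push π γ).ofConv).map (algebraMap k (DualNumber k))
    simp only [z, tanPt, mtx_ptu]
    rw [Matrix.mul_assoc, ← Matrix.map_mul, ← hdh, Matrix.map_mul, ← Matrix.mul_assoc, ← Matrix.mul_assoc]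
    congr 1
    rw [Matrix.mul_add, Matrix.mul_one, Matrix.add_mul, Matrix.one_mul, Matrix.mul_smul, Matrix.smul_mul,
      ← Matrix.map_mul, ← Matrix.map_mul]
    congr 3
    ext i j
    simp [dPt, Matrix.diagonal_mul, Matrix.mul_diagonal, zpow_sub]
    field_simp
  -- compare coefficients
  set E := fun i j => tanDer (Matrix.single i j (1 : k)) h₀.ofConv f
  let Q : k[T;T⁻¹] := (∑ i, ∑ j, AddMonoidAlgebra.single (μ i - μ j) (ζ i j * E i j)) -
    AddMonoidAlgebra.single (m : ℤ) (tanDer ζ h₀.ofConv f)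
  haveI : Infinite k := inferInstance
  have hQ : Q = 0 := eq_zero_of_evL fun s => by
    simp only [Q, map_sub, map_sum]
    have hsingle : ∀ (n : ℤ) (c : k), evL s (AddMonoidAlgebra.single n c) = c * ((s ^ n : kˣ) : k) := fun n c => by
      rw [single_eq_C_mul_T, map_mul, evL_C, evL_T]
    simp only [hsingle]
    rw [sub_eq_zero, mul_comm _ (((s ^ (m : ℤ) : kˣ) : k)), hscale, tanDer_sum]
    simp only [LinearMap.sum_apply, LinearMap.smul_apply, smul_eq_mul, Matrix.of_apply, E]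
    exact Finset.sum_congr rfl fun i _ => Finset.sum_congr rfl fun j _ => by ring
  have := congrArg (fun q : k[T;T⁻¹] => q.coeff (m : ℤ)) hQ
  simp only [Q, AddMonoidAlgebra.coeff_sub, AddMonoidAlgebra.coeff_sum, AddMonoidAlgebra.coeff_single,
    Finsupp.sub_apply, Finsupp.finsetSum_apply, Finsupp.single_apply, if_true, AddMonoidAlgebra.coeff_zero,
    Finsupp.zero_apply, sub_eq_zero] at this
  rw [hDf f hf, ← this, tanDer_sum η]
  simp only [LinearMap.sum_apply, LinearMap.smul_apply, smul_eq_mul, η, Matrix.of_apply, ite_mul, zero_mul, E]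

end Groth.Agent.HM15
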