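import Groth.Prelude.Def_GLin2
import Groth.Agent.Lib.FinGenH28.Basic
import Groth.Agent.Lib.FreeOrbH28.Dim
import Groth.Agent.Lib.OrbitFlatH28.Basic
import Groth.Agent.Lib.PsRefl28.Stab
import Groth.Agent.Lib.EqZMT28.Basic
import Mathlib.RingTheory.Smooth.Basic

/-!
# Functions on the cosets of a linearly reductive closed subgroup

For a surjection `π : H → A` of Hopf algebras of finite type in characteristic zero with `A` linearly reductive:
right invariant functions are finitely generated, separate the cosets, every point lifts, and every derivation at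
the identity extends to the group.
-/

open TensorProduct HopfRep WithConv Groth.Agent.Comodule

universe u

noncomputable section

namespace Groth.Agent.HM15

set_option linter.unusedSectionVars false
set_option linter.style.haveILetI false

variable {k : Type u} [Field k] {H A : Type u} [CommRing H] [HopfAlgebra k H]
  [CommRing A] [HopfAlgebra k A] (π : H →ₐc[k] A)

/-- Points of the subgroup. -/
def push (γ : WithConv (A →ₐ[k] k)) : WithConv (H →ₐ[k] k) := toConv (γ.ofConv.comp (π : H →ₐ[k] A))

lemma push_apply (γ : WithConv (A →ₐ[k] k)) (f : H) : (push π γ).ofConv f = γ.ofConv (π f) := rfl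

lemma push_one : push π 1 = 1 := WithConv.ofConv_injective <| AlgHom.ext fun f => by
  rw [push_apply, AlgHom.convOne_apply, AlgHom.convOne_apply, CoalgHomClass.counit_comp_apply]

lemma push_mul (γ γ' : WithConv (A →ₐ[k] k)) : push π (γ * γ') = push π γ * push π γ' :=
  WithConv.ofConv_injective <| AlgHom.ext fun f => by
    rw [push_apply, AlgHom.convMul_apply, AlgHom.convMul_apply]
    rw [← CoalgHomClass.map_comp_comul_apply π f]
    generalize CoalgebraStruct.comul (R := k) f = z
    induction z with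
    | zero => simp
    | tmul a b => simp [push_apply]
    | add a b ha hb => simp only [map_add, ha, hb]

/-- The action by right translations. -/
@[reducible] def cR : Comod k A H := GLin.comodAlong π (Comod.regular k H)

lemma hcR : @GLin.IsCoactAlg k _ A _ _ H _ _ (cR π) :=
  GLin.isCoactAlg_comodAlong π (Comod.regular k H)
    { coact_one := map_one (Bialgebra.comulAlgHom k H)
      coact_mul := map_mul (Bialgebra.comulAlgHom k H) }

/-- The right invariant functions. -/
def inv : Subalgebra k H := @GLin.invariants k _ A _ _ H _ _ (cR π) (hcR π)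

lemma mem_inv (f : H) :
    f ∈ inv π ↔ TensorProduct.map LinearMap.id (π : H →ₗ[k] A) (CoalgebraStruct.comul (R := k) f) = f ⊗ₜ[k] 1 :=
  Iff.rfl

lemma orbitHom_cR (h : WithConv (H →ₐ[k] k)) (f : H) :
    @GLin.orbitHom k _ A _ _ H _ _ (cR π) (hcR π) h.ofConv f = π (FreeOrbH28.tr h f) := by
  letI := cR π
  haveI := hcR π
  show TensorProduct.lid k A (TensorProduct.map h.ofConv.toLinearMap LinearMap.id
    (TensorProduct.map LinearMap.id (π : H →ₗ[k] A) (CoalgebraStruct.comul (R := k) f))) = _
  simp only [FreeOrbH28.tr, AlgHom.comp_apply, Bialgebra.comulAlgHom_apply]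
  generalize CoalgebraStruct.comul (R := k) f = z
  induction z with
  | zero => simp
  | tmul a b => simp
  | add a b ha hb => simp only [map_add, ha, hb]

variable [IsAlgClosed k] [CharZero k] [Algebra.FiniteType k H] [Algebra.FiniteType k A]
  (hπ : Function.Surjective π) (hG : IsLinearlyReductive k A)

lemma apply_mul_push {f : H} (hf : f ∈ inv π) (h : WithConv (H →ₐ[k] k)) (γ : WithConv (A →ₐ[k] k)) :
    (h * push π γ).ofConv f = h.ofConv f := by
  letI := cR π
  haveI := hcR π
  have := congrArg γ.ofConv (Comodule.orbitHom_of_mem_invariants h.ofConv hf)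
  rw [orbitHom_cR] at this
  rw [AlgHom.commutes] at this
  rw [← FreeOrbH28.apply_tr]
  exact this

lemma π_of_mem {f : H} (hf : f ∈ inv π) : π f = algebraMap k A (Coalgebra.counit (R := k) f) := by
  letI := cR π
  haveI := hcR π
  have h := Comodule.orbitHom_of_mem_invariants (1 : WithConv (H →ₐ[k] k)).ofConv hf
  rw [orbitHom_cR] at h
  have e : FreeOrbH28.tr (1 : WithConv (H →ₐ[k] k)) f = f := by
    have h1 := Coalgebra.rTensor_counit_comul (R := k) f
    simp only [FreeOrbH28.tr, AlgHom.comp_apply, Bialgebra.comulAlgHom_apply]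
    generalize CoalgebraStruct.comul (R := k) f = z at h1
    have key : ∀ z : H ⊗[k] H, Algebra.TensorProduct.lid k H
        (Algebra.TensorProduct.map (1 : WithConv (H →ₐ[k] k)).ofConv (AlgHom.id k H) z) =
        TensorProduct.lid k H ((Coalgebra.counit (R := k) (A := H)).rTensor H z) := fun z => by
      induction z with
      | zero => simp
      | tmul a b => simp [AlgHom.convOne_apply]
      | add a b ha hb => simp only [map_add, ha, hb]
    refine (key z).trans ?_
    rw [h1]
    simp
  rw [e, AlgHom.convOne_apply] at h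
  exact h

/-- Invariance, on points. -/
theorem mem_inv_iff (f : H) :
    f ∈ inv π ↔ ∀ (h : WithConv (H →ₐ[k] k)) (γ : WithConv (A →ₐ[k] k)), (h * push π γ).ofConv f = h.ofConv f := by
  classical
  refine ⟨fun hf => apply_mul_push π hf, fun hf => ?_⟩
  rw [mem_inv, ← sub_eq_zero]
  let b := Module.Basis.ofVectorSpace k A
  refine (TensorProduct.equivFinsuppOfBasisRight b).injective (Finsupp.ext fun i => ?_)
  rw [map_zero, Finsupp.zero_apply]
  refine FreeOrbH28.ext_points (k := k) fun h => ?_
  rw [map_zero]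
  have hc : ∀ z : H ⊗[k] A, h (TensorProduct.equivFinsuppOfBasisRight b z i) =
      b.coord i (TensorProduct.lid k A (TensorProduct.map h.toLinearMap LinearMap.id z)) := fun z => by
    induction z with
    | zero => simp
    | tmul a x => simp [mul_comm]
    | add a c ha hc => simp only [map_add, Finsupp.add_apply, ha, hc]
  rw [hc]
  have e : TensorProduct.lid k A (TensorProduct.map h.toLinearMap LinearMap.id
      (TensorProduct.map LinearMap.id (π : H →ₗ[k] A) (CoalgebraStruct.comul (R := k) f) - f ⊗ₜ[k] 1)) = 0 := by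
    rw [map_sub, map_sub, show TensorProduct.lid k A (TensorProduct.map h.toLinearMap LinearMap.id
      (TensorProduct.map LinearMap.id (π : H →ₗ[k] A) (CoalgebraStruct.comul (R := k) f))) =
      π (FreeOrbH28.tr (toConv h) f) from orbitHom_cR π (toConv h) f]
    rw [sub_eq_zero]
    refine FreeOrbH28.ext_points (k := k) fun γ => ?_
    have := hf (toConv h) (toConv γ)
    rw [← FreeOrbH28.apply_tr] at this
    refine this.trans ?_
    simp
  rw [e, map_zero]

lemma tr_mem_inv {f : H} (hf : f ∈ inv π) (g : WithConv (H →ₐ[k] k)) : FreeOrbH28.tr g f ∈ inv π :=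
  (mem_inv_iff π _).2 fun h γ => by
    rw [FreeOrbH28.apply_tr, FreeOrbH28.apply_tr, ← mul_assoc, apply_mul_push π hf]

include hG in
theorem exists_finset_inv : ∃ s : Finset H, inv π = Algebra.adjoin k (s : Set H) := by
  classical
  letI := cR π
  haveI := hcR π
  letI : Comod k A k := Comod.trivial k A k
  haveI : GLin.IsCoactAlg k A k :=
    { coact_one := rfl
      coact_mul := fun f g => by
        show (f * g) ⊗ₜ[k] (1 : A) = (f ⊗ₜ[k] 1) * (g ⊗ₜ[k] 1)
        rw [Algebra.TensorProduct.tmul_mul_tmul, one_mul] }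
  have hAC : Hoch.IsComodHom A (IsScalarTower.toAlgHom k k H).toLinearMap := LinearMap.ext fun c => by
    show Comod.coact (k := k) (A := A) (algebraMap k H c) = algebraMap k H c ⊗ₜ[k] 1
    exact (GLin.mem_invariants_iff k A H _).1 ((GLin.invariants k A H).algebraMap_mem c)
  obtain ⟨s, hs⟩ := FinGenH28.exists_finset_invariants_eq hG hAC
  refine ⟨s, le_antisymm ?_ ?_⟩
  · refine hs.le.trans (Algebra.adjoin_le ?_)
    rintro x (⟨c, -, rfl⟩ | hx)
    · exact Subalgebra.algebraMap_mem _ _
    · exact Algebra.subset_adjoin hx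
  · exact Algebra.adjoin_le fun x hx => hs.ge (Algebra.subset_adjoin (Or.inr hx))

include hG in
theorem exists_lift (y : inv π →ₐ[k] k) : ∃ h : WithConv (H →ₐ[k] k), ∀ f : inv π, h.ofConv f = y f := by
  letI := cR π
  haveI := hcR π
  obtain ⟨x, hx⟩ := Comodule.exists_point_over (R := H) hG y
  exact ⟨toConv x, fun f => AlgHom.congr_fun hx f⟩

include hπ in
lemma exists_push (z : WithConv (H →ₐ[k] k)) (hz : ∀ a, π a = 0 → z.ofConv a = 0) : ∃ γ, push π γ = z := by
  let e := Ideal.quotientKerAlgEquivOfSurjective (f := (π : H →ₐ[k] A)) hπ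
  let q : H ⧸ RingHom.ker (π : H →ₐ[k] A) →ₐ[k] k := Ideal.Quotient.liftₐ _ z.ofConv hz
  refine ⟨toConv (q.comp e.symm.toAlgHom), WithConv.ofConv_injective (AlgHom.ext fun f => ?_)⟩
  rw [push_apply]
  show q (e.symm (e (Ideal.Quotient.mk _ f))) = _
  rw [AlgEquiv.symm_apply_apply]
  rfl

include hπ hG in
/-- Invariants separate cosets. -/
theorem exists_push_of_forall (g : WithConv (H →ₐ[k] k))
    (hg : ∀ f ∈ inv π, g.ofConv f = Coalgebra.counit (R := k) f) : ∃ γ, push π γ = g := by
  letI := cR π
  haveI := hcR π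
  obtain ⟨z, hz1, hz2⟩ := Comodule.exists_inOrbitClosure_both (R := H) (x₁ := (1 : WithConv (H →ₐ[k] k)).ofConv)
    (x₂ := g.ofConv) hG fun f hf => by
      rw [AlgHom.convOne_apply, hg f hf]
      simp
  have key : ∀ h : WithConv (H →ₐ[k] k), GLin.InOrbitClosure k A h.ofConv z → ∃ γ, push π γ = h⁻¹ * toConv z := by
    intro h hcl
    refine exists_push π hπ _ fun a ha => ?_
    rw [← FreeOrbH28.apply_tr]
    refine RingHom.mem_ker.1 (hcl (RingHom.mem_ker.2 ?_))
    rw [orbitHom_cR]
    refine Eq.trans (congrArg π (FreeOrbH28.ext_points (k := k) fun p => ?_)) ha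
    show (toConv p).ofConv _ = _
    rw [FreeOrbH28.apply_tr, FreeOrbH28.apply_tr, ← mul_assoc, inv_mul_cancel, one_mul]
  obtain ⟨γ, hγ⟩ := key 1 hz1
  obtain ⟨γ', hγ'⟩ := key g hz2
  rw [inv_one, one_mul] at hγ
  refine ⟨γ * γ'⁻¹, ?_⟩
  have hinv : push π γ'⁻¹ = (push π γ')⁻¹ := eq_inv_of_mul_eq_one_left (by rw [← push_mul, inv_mul_cancel, push_one])
  rw [push_mul, hinv, hγ, hγ']
  group

/-- The ideal of the subgroup cut out by invariants. -/
def invIdeal : Ideal H := Ideal.span (Set.range fun f : inv π => (f : H) - algebraMap k H (Coalgebra.counit (R := k) (f : H)))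

lemma sub_mem_invIdeal {f : H} (hf : f ∈ inv π) :
    f - algebraMap k H (Coalgebra.counit (R := k) f) ∈ invIdeal π := Ideal.subset_span ⟨⟨f, hf⟩, rfl⟩

lemma stab_le_invIdeal {f : H} (hf : f ∈ inv π) : PsRefl28.stab (k := k) (M := H) H f ≤ invIdeal π := by
  classical
  refine Ideal.span_le.2 ?_
  rintro _ ⟨φ, rfl⟩
  let x : H := PsRefl28.slice φ (CoalgebraStruct.comul (R := k) f)
  have hx : x ∈ inv π := by
    have hsl : ∀ (q : H →ₐ[k] k) (z : H ⊗[k] H), q (PsRefl28.slice φ z) =
        φ ((TensorProduct.rid k H) (TensorProduct.map LinearMap.id q.toLinearMap z)) := fun q z => by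
      induction z with
      | zero => simp
      | tmul a b => simp [mul_comm]
      | add a b ha hb => simp only [map_add, ha, hb]
    refine (mem_inv_iff π _).2 fun h γ => ?_
    rw [hsl, hsl]
    refine congrArg φ (FreeOrbH28.ext_points (k := k) fun p => ?_)
    show (toConv p).ofConv (OrbitFlatH28.rtr (h * push π γ) f) = (toConv p).ofConv (OrbitFlatH28.rtr h f)
    rw [OrbitFlatH28.apply_rtr, OrbitFlatH28.apply_rtr, ← mul_assoc, apply_mul_push π hf]
  show PsRefl28.slice φ (CoalgebraStruct.comul (R := k) f - f ⊗ₜ[k] (1 : H)) ∈ invIdeal π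
  rw [map_sub, PsRefl28.slice_tmul_one]
  have := sub_mem_invIdeal π hx
  rwa [show Coalgebra.counit (R := k) x = φ f from PsRefl28.counit_slice (A := H) (M := H) f φ] at this

lemma isHopfIdeal_invIdeal : (invIdeal π).IsHopfIdeal k := by
  have hI : invIdeal π = ⨆ f : inv π, PsRefl28.stab (k := k) (M := H) H (f : H) := by
    refine le_antisymm (Ideal.span_le.2 ?_) (iSup_le fun f => stab_le_invIdeal π f.2)
    rintro _ ⟨f, rfl⟩
    refine le_iSup (fun f : inv π => PsRefl28.stab (k := k) (M := H) H (f : H)) f (Ideal.subset_span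
      ⟨Coalgebra.counit (R := k) (A := H), ?_⟩)
    show PsRefl28.slice _ (CoalgebraStruct.comul (R := k) (f : H) - (f : H) ⊗ₜ[k] (1 : H)) = _
    rw [map_sub, PsRefl28.slice_tmul_one]
    congr 1
    have h1 := Coalgebra.rTensor_counit_comul (R := k) (f : H)
    simp only [PsRefl28.slice, LinearMap.comp_apply, LinearEquiv.coe_coe, h1]
    simp
  refine { toIsCoideal := ⟨fun x hx => ?_, fun x hx => ?_⟩, antipode_mem := fun x hx => ?_ }
  · have hle : invIdeal π ≤ RingHom.ker (Bialgebra.counitAlgHom k H) := by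
      refine Ideal.span_le.2 ?_
      rintro _ ⟨f, rfl⟩
      simp [RingHom.mem_ker]
    exact hle hx
  · let Φ : H →ₐ[k] (H ⧸ invIdeal π) ⊗[k] (H ⧸ invIdeal π) :=
      (Algebra.TensorProduct.map (Ideal.Quotient.mkₐ k _) (Ideal.Quotient.mkₐ k _)).comp
        (Bialgebra.comulAlgHom k H)
    have hle : invIdeal π ≤ RingHom.ker Φ := by
      refine hI.le.trans (iSup_le fun f y hy => ?_)
      have h0 := (PsRefl28.isCoideal_stab (A := H) (M := H) (f : H)).map_mkQ_comul_eq_zero hy
      let r : H ⧸ PsRefl28.stab (k := k) (M := H) H (f : H) →ₐ[k] H ⧸ invIdeal π :=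
        Ideal.Quotient.factorₐ k (stab_le_invIdeal π f.2)
      show Φ y = 0
      have e : Φ = (Algebra.TensorProduct.map r r).comp
          ((Algebra.TensorProduct.map (Ideal.Quotient.mkₐ k _) (Ideal.Quotient.mkₐ k _)).comp
            (Bialgebra.comulAlgHom k H)) := by
        rw [← AlgHom.comp_assoc, ← Algebra.TensorProduct.map_comp]
        rfl
      rw [e, AlgHom.comp_apply]
      refine Eq.trans (congrArg (Algebra.TensorProduct.map r r) h0) (map_zero _)
    exact hle hx
  · let Ψ : H →ₐ[k] H ⧸ invIdeal π := (Ideal.Quotient.mkₐ k _).comp (HopfAlgebra.antipodeAlgHom k H)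
    have hle : invIdeal π ≤ RingHom.ker Ψ := by
      refine hI.le.trans (iSup_le fun f y hy => ?_)
      exact Ideal.Quotient.eq_zero_iff_mem.2
        (stab_le_invIdeal π f.2 ((PsRefl28.isHopfIdeal_stab (A := H) (M := H) (f : H)).antipode_mem hy))
    exact Ideal.Quotient.eq_zero_iff_mem.1 (hle hx)

include hπ hG in
/-- The invariants cut out the subgroup scheme-theoretically. -/
theorem ker_eq_invIdeal : RingHom.ker (π : H →ₐ[k] A) = invIdeal π := by
  refine le_antisymm (fun a ha => ?_) (Ideal.span_le.2 ?_)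
  · haveI := isHopfIdeal_invIdeal π
    haveI : Algebra.FiniteType k (H ⧸ invIdeal π) :=
      Algebra.FiniteType.of_surjective (Ideal.Quotient.mkₐ k _) Ideal.Quotient.mk_surjective
    rw [← Ideal.Quotient.eq_zero_iff_mem]
    refine FreeOrbH28.ext_points (k := k) (A := H ⧸ invIdeal π) fun z => ?_
    rw [map_zero]
    obtain ⟨γ, hγ⟩ := exists_push_of_forall π hπ hG (toConv (z.comp (Ideal.Quotient.mkₐ k _))) fun f hf => by
      show z (Ideal.Quotient.mk _ f) = _
      rw [Ideal.Quotient.eq.2 (sub_mem_invIdeal π hf), Ideal.Quotient.mk_algebraMap, AlgHom.commutes]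
      simp
    have := congrArg (fun q : WithConv (H →ₐ[k] k) => q.ofConv a) hγ
    have h0 : π a = 0 := RingHom.mem_ker.1 ha
    rw [push_apply, h0, map_zero] at this
    exact this.symm
  · rintro _ ⟨f, rfl⟩
    rw [SetLike.mem_coe, RingHom.mem_ker, map_sub, AlgHom.commutes]
    exact sub_eq_zero.2 (π_of_mem π f.2)

end Groth.Agent.HM15
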