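import Groth.Agent.Lib.HM15.Homog
import Groth.Prelude.Def_GLin4

/-!
# Points of the general linear group with values in algebras, as matrices
-/

open TensorProduct HopfRep WithConv CoordGrp

universe u

noncomputable section

namespace Groth.Agent.HM15

set_option linter.unusedSectionVars false
set_option linter.style.haveILetI false

variable {k : Type u} [Field k] {N : ℕ} {R : Type u} [CommRing R] [Algebra k R]

/-- The matrix of a point. -/
def mtx (x : GLn N k →ₐ[k] R) : Matrix (Fin N) (Fin N) R := Matrix.of fun i j => x (GLn.X i j)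

@[simp] lemma mtx_apply (x : GLn N k →ₐ[k] R) (i j : Fin N) : mtx x i j = x (GLn.X i j) := rfl

lemma det_mtx (x : GLn N k →ₐ[k] R) : (mtx x).det = x GLn.det := by
  rw [GLn.det_eq, AlgHom.map_det]
  rfl

lemma isUnit_det_mtx (x : GLn N k →ₐ[k] R) : IsUnit (mtx x).det := by
  refine IsUnit.of_mul_eq_one (x GLn.Dinv) ?_
  rw [det_mtx, ← map_mul, GLn.det_mul_Dinv, map_one]

/-- The point with a given invertible matrix. -/
def ptu (M : Matrix (Fin N) (Fin N) R) (h : IsUnit M.det) : GLn N k →ₐ[k] R :=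
  GLn.pt N k M (↑h.unit⁻¹) h.mul_val_inv

@[simp] lemma ptu_X (M : Matrix (Fin N) (Fin N) R) (h : IsUnit M.det) (i j : Fin N) :
    ptu (k := k) M h (GLn.X i j) = M i j := GLn.pt_X _ _ _ _ _

@[simp] lemma mtx_ptu (M : Matrix (Fin N) (Fin N) R) (h : IsUnit M.det) : mtx (ptu (k := k) M h) = M := by
  ext i j; simp

lemma ext_mtx {x y : GLn N k →ₐ[k] R} (h : mtx x = mtx y) : x = y := by
  have hd : x GLn.det = y GLn.det := by rw [← det_mtx, ← det_mtx, h]
  refine GLn.algHom_ext (fun i j => congrFun (congrFun h i) j) ?_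
  have h1 : x GLn.Dinv * y GLn.det = 1 := by rw [← hd, ← map_mul, GLn.Dinv_mul_det, map_one]
  have h2 : y GLn.det * y GLn.Dinv = 1 := by rw [← map_mul, GLn.det_mul_Dinv, map_one]
  exact left_inv_eq_right_inv h1 h2

lemma mtx_comp {S : Type u} [CommRing S] [Algebra k S] (φ : R →ₐ[k] S) (x : GLn N k →ₐ[k] R) :
    mtx (φ.comp x) = (mtx x).map φ := rfl

lemma mtx_mul (x y : WithConv (GLn N k →ₐ[k] R)) : mtx (x * y).ofConv = mtx x.ofConv * mtx y.ofConv := by
  ext i j
  rw [Matrix.mul_apply, mtx_apply, AlgHom.convMul_apply, GLn.comul_X, map_sum]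
  simp

lemma mtx_one : mtx (1 : WithConv (GLn N k →ₐ[k] R)).ofConv = 1 := by
  ext i j
  rw [mtx_apply, AlgHom.convOne_apply, GLn.counit_X, Matrix.one_apply]
  split_ifs <;> simp

/-- Induction on regular functions of the general linear group. -/
@[elab_as_elim]
theorem gln_induction {P : GLn N k → Prop} (f : GLn N k) (hC : ∀ c, P (algebraMap k _ c))
    (hadd : ∀ a b, P a → P b → P (a + b)) (hX : ∀ a i j, P a → P (a * GLn.X i j))
    (hD : ∀ a, P a → P (a * GLn.Dinv)) : P f := by
  obtain ⟨g, rfl⟩ := Ideal.Quotient.mkₐ_surjective k (GLb.relIdeal N k) f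
  have key : ∀ p : MvPolynomial (GLPoly.Idx N) k, P (Ideal.Quotient.mkₐ k (GLb.relIdeal N k) (p : GLb N k)) := by
    intro p
    induction p using MvPolynomial.induction_on with
    | C c => exact hC c
    | add p q hp hq => exact (map_add (Ideal.Quotient.mkₐ k (GLb.relIdeal N k)) (p : GLb N k) q).symm ▸ hadd _ _ hp hq
    | mul_X p s hp =>
      rcases s with ⟨i, j⟩ | ⟨⟨⟩⟩
      · exact (map_mul (Ideal.Quotient.mkₐ k (GLb.relIdeal N k)) (p : GLb N k) (GLb.X i j)).symm ▸ hX _ i j hp
      · exact (map_mul (Ideal.Quotient.mkₐ k (GLb.relIdeal N k)) (p : GLb N k) GLb.D).symm ▸ hD _ hp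
  exact key g

lemma finiteType_GLn' : Algebra.FiniteType k (GLn N k) := by
  haveI : Algebra.FiniteType k (GLb N k) :=
    inferInstanceAs (Algebra.FiniteType k (MvPolynomial (GLPoly.Idx N) k))
  exact Algebra.FiniteType.of_surjective (GLn.mk N k) Ideal.Quotient.mk_surjective

section Inv

variable {A : Type u} [CommRing A] [HopfAlgebra k A] {π : GLn N k →ₐc[k] A}

/-- Right invariance, on points with values in any algebra. -/
lemma apply_eq_of_mtx {f : GLn N k} (hf : f ∈ inv π) {x y : GLn N k →ₐ[k] R} (γ : A →ₐ[k] R)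
    (h : mtx y = mtx x * mtx (γ.comp (π : GLn N k →ₐ[k] A))) : y f = x f := by
  have e : y = (toConv x * toConv (γ.comp (π : GLn N k →ₐ[k] A))).ofConv := ext_mtx (by rw [mtx_mul]; exact h)
  rw [e, AlgHom.convMul_apply]
  have h1 := congrArg (Algebra.TensorProduct.lift x γ fun _ _ => Commute.all _ _) ((mem_inv π f).1 hf)
  rw [Algebra.TensorProduct.lift_tmul, map_one, mul_one] at h1
  refine Eq.trans ?_ h1
  generalize CoalgebraStruct.comul (R := k) f = z
  induction z with
  | zero => simp
  | tmul a b => simp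
  | add a b ha hb => simp only [map_add, ha, hb]

end Inv

lemma apply_tr_R [IsAlgClosed k] [CharZero k] (g : WithConv (GLn N k →ₐ[k] k)) (x : GLn N k →ₐ[k] R) (f : GLn N k)
    (y : GLn N k →ₐ[k] R) (h : mtx y = (mtx g.ofConv).map (algebraMap k R) * mtx x) :
    haveI := finiteType_GLn' (k := k) (N := N)
    x (FreeOrbH28.tr g f) = y f := by
  haveI := finiteType_GLn' (k := k) (N := N)
  have e : y = (toConv ((Algebra.ofId k R).comp g.ofConv) * toConv x).ofConv := ext_mtx (by rw [mtx_mul]; exact h)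
  rw [e, AlgHom.convMul_apply]
  simp only [FreeOrbH28.tr, AlgHom.comp_apply, Bialgebra.comulAlgHom_apply]
  generalize CoalgebraStruct.comul (R := k) f = z
  induction z with
  | zero => simp
  | tmul a b => simp [Algebra.smul_def]
  | add a b ha hb => simp only [map_add, ha, hb]

end Groth.Agent.HM15
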