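import Groth.Agent.Lib.HM15.Flow

/-!
# Removing the components of the orbit of positive weight
-/

open TensorProduct HopfRep WithConv CoordGrp LaurentPolynomial

universe u

noncomputable section

namespace Groth.Agent.HM15

set_option linter.unusedSectionVars false
set_option linter.style.haveILetI false

attribute [local instance] finiteType_GLn'

variable {k : Type u} [Field k] [IsAlgClosed k] [CharZero k] {N : ℕ} (μ : Fin N → ℤ)
  {A : Type u} [CommRing A] [HopfAlgebra k A] [Algebra.FiniteType k A] (π : GLn N k →ₐc[k] A)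

/-- The path of matrices `(1 + X η) diag(T^μ) p`. -/
def pencil (η : Matrix (Fin N) (Fin N) k) (hη : IsNilpotent η) (p : GLn N k →ₐ[k] k) :
    GLn N k →ₐ[k] Polynomial k[T;T⁻¹] :=
  ptu ((1 + (Polynomial.X : Polynomial k[T;T⁻¹]) • η.map (algebraMap k _)) *
      (dM μ * (mtx p).map (algebraMap k k[T;T⁻¹])).map Polynomial.C) (by
    rw [Matrix.det_mul, ← RingHom.mapMatrix_apply Polynomial.C, ← RingHom.map_det]
    refine IsUnit.mul ((Matrix.isUnit_iff_isUnit_det _).1 (IsNilpotent.isUnit_one_add ?_)) (IsUnit.map _ ?_)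
    · obtain ⟨n, hn⟩ := hη
      refine ⟨n, ?_⟩
      rw [smul_pow, ← RingHom.mapMatrix_apply, ← map_pow, hn, map_zero, smul_zero]
    · rw [Matrix.det_mul, ← RingHom.mapMatrix_apply, ← RingHom.map_det]
      exact (isUnit_det_dM μ).mul ((isUnit_det_mtx p).map _))

/-- One step: the component of weight `m` is removed. -/
theorem exists_step (hπ : Function.Surjective π) (hG : IsLinearlyReductive k A) {P : ℤ → Prop}
    (hP : ∀ a b, b ≤ a → P a → P b) {p : GLn N k →ₐ[k] k} (hp : Good μ π p) {v : Fin N → k} (w : Fin N → k)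
    (hw : ∀ i, w i ≠ 0 → P (μ i)) (hv : v = Matrix.vecMul w (mtx p)) {m : ℕ} (hm : 0 < m)
    (hlow : ∀ f ∈ inv π, ∀ n : ℤ, 0 < n → n < m → (path μ p f).coeff n = 0) :
    ∃ (p' : GLn N k →ₐ[k] k) (w' : Fin N → k), Good μ π p' ∧ (∀ i, w' i ≠ 0 → P (μ i)) ∧
      v = Matrix.vecMul w' (mtx p') ∧
      ∀ f ∈ inv π, ∀ n : ℤ, 0 < n → n < (m + 1 : ℕ) → (path μ p' f).coeff n = 0 := by
  classical
  obtain ⟨h₀, hh₀⟩ := exists_limit μ π hp hG
  obtain ⟨η₀, hη₀, hD⟩ := exists_wt_direction μ π hπ hG hp hm hlow h₀ hh₀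
  set η := -η₀ with hηdef
  have hη : WtMat μ m η := fun i j h => hη₀ i j (fun h0 => h (by simp [η, h0]))
  have hnil : IsNilpotent η := isNilpotent_wt (by exact_mod_cast hm) hη
  have hu : ∀ c : k, IsUnit (1 + c • η : Matrix (Fin N) (Fin N) k).det := fun c =>
    (Matrix.isUnit_iff_isUnit_det _).1 (IsNilpotent.isUnit_one_add (hnil.smul c))
  let g : k → WithConv (GLn N k →ₐ[k] k) := fun c => toConv (ptu (1 + c • η) (hu c))
  set F := pencil μ η hnil p with hF
  -- evaluating the pencil
  let ev : k → Polynomial k[T;T⁻¹] →ₐ[k] k[T;T⁻¹] := fun c =>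
    (Polynomial.aeval (algebraMap k k[T;T⁻¹] c)).restrictScalars k
  have hev : ∀ c f, ev c (F f) = path μ p (FreeOrbH28.tr (g c) f) := by
    intro c f
    refine (apply_tr_R (g c) (path μ p) f ((ev c).comp F) (Matrix.ext fun i j => ?_)).symm
    simp only [F, pencil, path, mtx_comp, mtx_ptu, g, WithConv.ofConv_toConv, Matrix.map_apply, Matrix.mul_apply,
      map_sum, map_mul, Matrix.add_apply, Matrix.smul_apply, Matrix.one_apply]
    refine Finset.sum_congr rfl fun l _ => ?_
    congr 1
    · split_ifs <;> simp [ev, smul_eq_mul] <;> ring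
    · simp [ev]
  have hnn : ∀ f ∈ inv π, ∀ i : ℕ, Comodule.NoNeg ((F f).coeff i) := by
    intro f hf i n hn
    let q : Polynomial k := ∑ l ∈ Finset.range ((F f).natDegree + 1), Polynomial.C (((F f).coeff l).coeff n) * Polynomial.X ^ l
    have hq : q = 0 := Polynomial.funext fun c => by
      have h1 := hp _ (tr_mem_inv π hf (g c)) n hn
      rw [← hev] at h1
      simp only [ev, AlgHom.restrictScalars_apply, Polynomial.aeval_eq_sum_range, smul_eq_mul,
        AddMonoidAlgebra.coeff_sum, Finsupp.finsetSum_apply] at h1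
      rw [Polynomial.eval_zero, ← h1]
      simp only [q, Polynomial.eval_finsetSum, Polynomial.eval_mul, Polynomial.eval_C, Polynomial.eval_pow,
        Polynomial.eval_X]
      refine Finset.sum_congr rfl fun l _ => ?_
      rw [mul_comm ((F f).coeff l), ← map_pow, ← Algebra.smul_def, AddMonoidAlgebra.coeff_smul, Finsupp.smul_apply,
        smul_eq_mul, mul_comm]
    rcases le_or_gt i (F f).natDegree with hi | hi
    · have := congrArg (fun r => Polynomial.coeff r i) hq
      simpa [q, Polynomial.finsetSum_coeff, Polynomial.coeff_C_mul_X_pow, Nat.lt_succ_iff, hi] using this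
    · simp [Polynomial.coeff_eq_zero_of_natDegree_lt hi]
  -- the constant terms in `T`
  let Q : GLn N k →ₐ[k] Polynomial k := ptu
    ((1 + (Polynomial.X : Polynomial k) • η.map (algebraMap k _)) * (mtx h₀.ofConv).map (algebraMap k _)) (by
      rw [Matrix.det_mul, ← RingHom.mapMatrix_apply (algebraMap k (Polynomial k)) (mtx h₀.ofConv), ← RingHom.map_det]
      refine IsUnit.mul ((Matrix.isUnit_iff_isUnit_det _).1 (IsNilpotent.isUnit_one_add ?_))
        ((isUnit_det_mtx _).map _)
      obtain ⟨n, hn⟩ := hnil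
      refine ⟨n, ?_⟩
      rw [smul_pow, ← RingHom.mapMatrix_apply, ← map_pow, hn, map_zero, smul_zero])
  have hQ : ∀ f ∈ inv π, ∀ i, (Q f).coeff i = ((F f).coeff i).coeff 0 := by
    intro f hf
    let q : Polynomial k := ∑ l ∈ Finset.range ((F f).natDegree + 1), Polynomial.C (((F f).coeff l).coeff 0) * Polynomial.X ^ l
    have hq : q = Q f := Polynomial.funext fun c => by
      have h2 : (Q f).eval c = h₀.ofConv (FreeOrbH28.tr (g c) f) := by
        refine Eq.trans ?_ (apply_tr_R (g c) h₀.ofConv f ((Polynomial.aeval c).comp Q) (Matrix.ext fun i j => ?_)).symm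
        · exact (Polynomial.coe_aeval_eq_eval c ▸ rfl)
        simp only [Q, mtx_comp, mtx_ptu, g, WithConv.ofConv_toConv, Matrix.map_apply, Matrix.mul_apply,
          map_sum, map_mul, Matrix.add_apply, Matrix.smul_apply, Matrix.one_apply]
        refine Finset.sum_congr rfl fun l _ => ?_
        congr 1
        · split_ifs <;> simp [smul_eq_mul] <;> ring
        · simp
      rw [h2, hh₀ _ (tr_mem_inv π hf (g c)), ← hev]
      simp only [ev, AlgHom.restrictScalars_apply, Polynomial.aeval_eq_sum_range, smul_eq_mul,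
        AddMonoidAlgebra.coeff_sum, Finsupp.finsetSum_apply, q, Polynomial.eval_finsetSum, Polynomial.eval_mul,
        Polynomial.eval_C, Polynomial.eval_pow, Polynomial.eval_X]
      refine Finset.sum_congr rfl fun l _ => ?_
      rw [mul_comm ((F f).coeff l), ← map_pow, ← Algebra.smul_def, AddMonoidAlgebra.coeff_smul, Finsupp.smul_apply,
        smul_eq_mul, mul_comm]
    intro i
    rw [← hq]
    rcases le_or_gt i (F f).natDegree with hi | hi
    · simp [q, Polynomial.finsetSum_coeff, Polynomial.coeff_C_mul_X_pow, Nat.lt_succ_iff, hi]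
    · simp [q, Polynomial.finsetSum_coeff, Polynomial.coeff_C_mul_X_pow, Nat.lt_succ_iff, hi.not_ge,
        Polynomial.coeff_eq_zero_of_natDegree_lt hi]
  have hQ1 : ∀ f ∈ inv π, ((F f).coeff 1).coeff 0 = tanDer η h₀.ofConv f := by
    intro f hf
    rw [← hQ f hf]
    have e : tanPt η h₀.ofConv = (Polynomial.aeval (DualNumber.eps : DualNumber k)).comp Q := by
      refine ext_mtx (Matrix.ext fun i j => ?_)
      simp only [tanPt, Q, mtx_comp, mtx_ptu, Matrix.map_apply, Matrix.mul_apply, map_sum, map_mul, Matrix.add_apply,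
        Matrix.smul_apply, Matrix.one_apply]
      refine Finset.sum_congr rfl fun l _ => ?_
      congr 1
      · split_ifs <;> simp [smul_eq_mul] <;> ring
      · simp
    show _ = (tanPt η h₀.ofConv f).snd
    rw [e, AlgHom.comp_apply]
    clear hf
    induction Q f using Polynomial.induction_on' with
    | add a b ha hb => simp [ha, hb]
    | monomial n c =>
      rw [Polynomial.aeval_monomial, Polynomial.coeff_monomial]
      rcases n with _ | _ | n
      · simp [TrivSqZeroExt.algebraMap_eq_inl]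
      · simp [TrivSqZeroExt.algebraMap_eq_inl]
      · simp [pow_succ, mul_assoc]
  -- the new point
  let p' : GLn N k →ₐ[k] k := ptu ((1 + η) * mtx p) (by
    rw [Matrix.det_mul]
    have := hu 1
    rw [one_smul] at this
    exact this.mul (isUnit_det_mtx p))
  let sub : Polynomial k[T;T⁻¹] →ₐ[k] k[T;T⁻¹] := (Polynomial.aeval (T (m : ℤ) : k[T;T⁻¹])).restrictScalars k
  have hsub : ∀ f, path μ p' f = sub (F f) := by
    intro f
    refine AlgHom.congr_fun (ext_mtx (x := path μ p') (y := sub.comp F) ?_) f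
    simp only [path, p', F, pencil, mtx_comp, mtx_ptu]
    rw [Matrix.map_mul, ← Matrix.mul_assoc, show dM μ * (1 + η).map (algebraMap k k[T;T⁻¹]) =
      (1 + (T (m : ℤ) : k[T;T⁻¹]) • η.map (algebraMap k _)) * dM μ from ?_, Matrix.mul_assoc, Matrix.map_mul]
    · congr 1
      · refine Matrix.ext fun a b => ?_
        simp only [Matrix.map_apply, Matrix.add_apply, Matrix.smul_apply, Matrix.one_apply, map_add, smul_eq_mul]
        congr 1
        · split_ifs <;> simp [sub]
        all_goals simp [sub]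
      · exact Matrix.ext fun a b => by simp only [Matrix.map_apply, sub, AlgHom.restrictScalars_apply, Polynomial.aeval_C, Algebra.algebraMap_self_apply]
    · ext a b
      simp only [dM, Matrix.diagonal_mul, Matrix.mul_diagonal, Matrix.map_apply, Matrix.add_apply, Matrix.smul_apply,
        Matrix.one_apply, map_add, mul_add, add_mul, smul_eq_mul]
      rcases eq_or_ne (η a b) 0 with h0 | h0
      · rcases eq_or_ne a b with rfl | hab
        · simp [h0]
        · simp [h0, hab]
      · have h1 := hη a b h0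
        have hab : a ≠ b := fun h => by subst h; omega
        rw [show μ a = (m : ℤ) + μ b by omega, T_add]
        simp only [if_neg hab, map_zero, mul_zero, zero_add, zero_mul, add_zero]
        ring
  have hcoef : ∀ f (n : ℤ), (path μ p' f).coeff n =
      ∑ i ∈ Finset.range ((F f).natDegree + 1), ((F f).coeff i).coeff (n - (i : ℤ) * m) := by
    intro f n
    rw [hsub]
    simp only [sub, AlgHom.restrictScalars_apply, Polynomial.aeval_eq_sum_range, smul_eq_mul,
      AddMonoidAlgebra.coeff_sum, Finsupp.finsetSum_apply]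
    refine Finset.sum_congr rfl fun i _ => ?_
    rw [T_pow, mul_comm, Comodule.coeff_T_mul]
  have hgood : Good μ π p' := fun f hf n hn => by
    rw [hcoef]
    refine Finset.sum_eq_zero fun i _ => hnn f hf i _ ?_
    have : (0 : ℤ) ≤ (i : ℤ) * m := by positivity
    omega
  -- the vector
  have hSinv : ∀ x : Fin N → k, (∀ i, x i ≠ 0 → P (μ i)) → ∀ n : ℕ,
      ∀ i, Matrix.vecMul x (η ^ n) i ≠ 0 → P (μ i) := by
    intro x hx n i hi
    simp only [Matrix.vecMul, dotProduct] at hi
    obtain ⟨l, -, hl⟩ := Finset.exists_ne_zero_of_sum_ne_zero hi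
    refine hP _ _ ?_ (hx l (left_ne_zero_of_mul hl))
    have := wt_pow hη n l i (right_ne_zero_of_mul hl)
    have h0 : (0 : ℤ) ≤ (n : ℤ) * m := by positivity
    omega
  obtain ⟨K, hK⟩ := hnil
  let U : Matrix (Fin N) (Fin N) k := ∑ i ∈ Finset.range K, (-η) ^ i
  have hU : U * (1 + η) = 1 := by
    have h1 := geom_sum_mul_neg (-η) K
    rw [sub_neg_eq_add, neg_pow, hK, mul_zero, sub_zero] at h1
    exact h1
  refine ⟨p', Matrix.vecMul w U, hgood, fun i hi => ?_, ?_, fun f hf n hn hn' => ?_⟩
  · simp only [U, Matrix.vecMul_sum, Finset.sum_apply] at hi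
    obtain ⟨l, -, hl⟩ := Finset.exists_ne_zero_of_sum_ne_zero hi
    refine hSinv w hw l i fun h0 => hl ?_
    rcases neg_one_pow_eq_or (Matrix (Fin N) (Fin N) k) l with h1 | h1
    · rw [neg_pow, h1, one_mul, h0]
    · rw [neg_pow, h1, neg_one_mul, Matrix.vecMul_neg, Pi.neg_apply, h0, neg_zero]
  · simp only [p', mtx_ptu]
    rw [Matrix.vecMul_vecMul, ← Matrix.mul_assoc, hU, Matrix.one_mul, hv]
  · rw [hcoef]
    have hn2 : n ≤ (m : ℤ) := by push_cast at hn'; omega
    have hF0 : (F f).coeff 0 = path μ p f := by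
      have := hev 0 f
      simp only [ev, map_zero, AlgHom.restrictScalars_apply, ← Polynomial.coeff_zero_eq_aeval_zero] at this
      rw [this]
      congr 1
      refine FreeOrbH28.ext_points (k := k) fun q => ?_
      show (toConv q).ofConv _ = _
      rw [FreeOrbH28.apply_tr, show g 0 = 1 from WithConv.ofConv_injective (ext_mtx (by rw [mtx_one]; simp [g])),
        one_mul]
    have hF1 : ((F f).coeff 1).coeff (n - (m : ℤ)) = if n = (m : ℤ) then -tanDer η₀ h₀.ofConv f else 0 := by
      split_ifs with h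
      · rw [h, sub_self, hQ1 f hf, hηdef]
        rw [tanDer_sum (-η₀), tanDer_sum η₀]
        simp [Finset.sum_neg_distrib]
      · exact hnn f hf 1 _ (by omega)
    have hhigh : ∀ i, 2 ≤ i → ((F f).coeff i).coeff (n - (i : ℤ) * m) = 0 := fun i hi => by
      refine hnn f hf i _ ?_
      have : (2 : ℤ) * m ≤ (i : ℤ) * m := by gcongr; exact_mod_cast hi
      have : (0 : ℤ) < (m : ℤ) := by exact_mod_cast hm
      omega
    rw [show ∑ i ∈ Finset.range ((F f).natDegree + 1), ((F f).coeff i).coeff (n - (i : ℤ) * m) =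
      ((F f).coeff 0).coeff n + ((F f).coeff 1).coeff (n - (m : ℤ)) from ?_, hF0, hF1]
    · split_ifs with h
      · rw [h, hD f hf, add_neg_cancel]
      · rw [add_zero, hlow f hf n hn (by omega)]
    · rw [Finset.sum_eq_add 0 1 (by decide) ?_ ?_ ?_]
      · simp
      · rintro i - ⟨h1, h2⟩
        exact hhigh i (by omega)
      · simp
      · intro h1
        rw [Finset.mem_range] at h1
        rw [Polynomial.coeff_eq_zero_of_natDegree_lt (by omega)]
        simp

/-- The coset of a point is moved along the unipotent subgroup to a fixed one. -/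
theorem exists_fixed (hπ : Function.Surjective π) (hG : IsLinearlyReductive k A) {P : ℤ → Prop}
    (hP : ∀ a b, b ≤ a → P a → P b) {p₀ : GLn N k →ₐ[k] k} (hp₀ : Good μ π p₀) {v : Fin N → k} (w₀ : Fin N → k)
    (hw₀ : ∀ i, w₀ i ≠ 0 → P (μ i)) (hv₀ : v = Matrix.vecMul w₀ (mtx p₀)) :
    ∃ (p : GLn N k →ₐ[k] k) (w : Fin N → k), (∀ i, w i ≠ 0 → P (μ i)) ∧ v = Matrix.vecMul w (mtx p) ∧
      ∀ f ∈ inv π, ∀ s : kˣ, (dPt μ s * toConv p).ofConv f = p f := by
  classical
  -- a bound for the weights
  obtain ⟨gen, hgen⟩ := exists_finset_inv π hG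
  obtain ⟨M, hM⟩ : ∃ M : ℕ, ∀ f ∈ gen, ∀ (q : GLn N k →ₐ[k] k) (n : ℤ), (M : ℤ) < n → (path μ q f).coeff n = 0 := by
    let univPath : GLn N k →ₐ[k] AddMonoidAlgebra (GLn N k) ℤ :=
      ptu (Matrix.diagonal (fun i => AddMonoidAlgebra.single (μ i) (1 : GLn N k)) *
        (mtx (AlgHom.id k (GLn N k))).map AddMonoidAlgebra.singleZeroRingHom) (by
        rw [Matrix.det_mul, Matrix.det_diagonal, ← RingHom.mapMatrix_apply, ← RingHom.map_det]
        refine IsUnit.mul (IsUnit.prod_iff.2 fun i _ => ?_) ((isUnit_det_mtx _).map _)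
        exact IsUnit.of_mul_eq_one (AddMonoidAlgebra.single (-μ i) 1)
          (by rw [AddMonoidAlgebra.single_mul_single, add_neg_cancel, mul_one]; rfl))
    refine ⟨gen.sup fun f => (univPath f).coeff.support.sup Int.natAbs, fun f hf q n hn => ?_⟩
    have e : path μ q = (AddMonoidAlgebra.mapAlgHom ℤ q).comp univPath := ext_mtx (Matrix.ext fun i j => by
      simp only [path, univPath, dM, mtx_comp, mtx_ptu, Matrix.map_apply, Matrix.diagonal_mul]
      show AddMonoidAlgebra.single (μ i) (1 : k) * AddMonoidAlgebra.single 0 (q (GLn.X i j)) =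
        AddMonoidAlgebra.mapAlgHom ℤ q (AddMonoidAlgebra.single (μ i) (1 : GLn N k) *
          AddMonoidAlgebra.single 0 (GLn.X i j))
      rw [map_mul, AddMonoidAlgebra.mapAlgHom_single, AddMonoidAlgebra.mapAlgHom_single, map_one])
    rw [e, AlgHom.comp_apply, AddMonoidAlgebra.coeff_mapAlgHom]
    by_cases h : n ∈ (univPath f).coeff.support
    · have h1 : n.natAbs ≤ (univPath f).coeff.support.sup Int.natAbs := Finset.le_sup h
      have h2 := Finset.le_sup (f := fun f => (univPath f).coeff.support.sup Int.natAbs) hf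
      omega
    · rw [Finsupp.notMem_support_iff.1 h, map_zero]
  -- iterate
  have loop : ∀ m : ℕ, 0 < m → ∃ (p : GLn N k →ₐ[k] k) (w : Fin N → k), Good μ π p ∧ (∀ i, w i ≠ 0 → P (μ i)) ∧
      v = Matrix.vecMul w (mtx p) ∧ ∀ f ∈ inv π, ∀ n : ℤ, 0 < n → n < m → (path μ p f).coeff n = 0 := by
    intro m hm
    induction m with
    | zero => omega
    | succ m ih =>
      rcases Nat.eq_zero_or_pos m with rfl | hm'
      · exact ⟨p₀, w₀, hp₀, hw₀, hv₀, fun f _ n h1 h2 => by simp at h2; omega⟩
      · obtain ⟨p, w, h1, h2, h3, h4⟩ := ih hm'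
        exact exists_step μ π hπ hG hP h1 w h2 h3 hm' h4
  obtain ⟨p, w, hgood, hw, hv, hlow⟩ := loop (M + 1) (Nat.succ_pos _)
  refine ⟨p, w, hw, hv, fun f hf s => ?_⟩
  have hconst : ∀ f ∈ inv π, ∃ c, path μ p f = algebraMap k _ c := by
    intro f hf
    have hf' : f ∈ Algebra.adjoin k (gen : Set (GLn N k)) := hgen ▸ hf
    clear hf
    induction hf' using Algebra.adjoin_induction with
    | mem f hf =>
      have hfi : f ∈ inv π := hgen.ge (Algebra.subset_adjoin hf)
      refine ⟨(path μ p f).coeff 0, AddMonoidAlgebra.ext (Finsupp.ext fun n => ?_)⟩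
      rw [LaurentPolynomial.algebraMap_apply, Algebra.algebraMap_self, RingHom.id_apply,
        show (C ((path μ p f).coeff 0) : k[T;T⁻¹]) = AddMonoidAlgebra.single 0 _ from rfl,
        AddMonoidAlgebra.coeff_single, Finsupp.single_apply]
      split_ifs with h
      · rw [h]
      rcases lt_or_gt_of_ne h with h1 | h1
      · by_cases h2 : n ≤ (M : ℤ)
        · exact hlow f hfi n h1 (by push_cast; omega)
        · exact hM f hf p n (by omega)
      · exact hgood f hfi n h1
    | algebraMap c => exact ⟨c, (path μ p).commutes c⟩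
    | add f g _ _ hf hg =>
      obtain ⟨a, ha⟩ := hf; obtain ⟨b, hb⟩ := hg
      exact ⟨a + b, by rw [map_add, map_add, ha, hb]⟩
    | mul f g _ _ hf hg =>
      obtain ⟨a, ha⟩ := hf; obtain ⟨b, hb⟩ := hg
      exact ⟨a * b, by rw [map_mul, map_mul, ha, hb]⟩
  obtain ⟨c, hc⟩ := hconst f hf
  have hs : ∀ s : kˣ, (dPt μ s * toConv p).ofConv f = c := fun s => by
    rw [← evL_path, AlgHom.comp_apply, hc, AlgHom.commutes]
    rfl
  have h1 : dPt μ (1 : kˣ) = (1 : WithConv (GLn N k →ₐ[k] k)) :=
    WithConv.ofConv_injective (ext_mtx (by rw [mtx_one]; simp [dPt]))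
  rw [hs, ← hs 1, h1, one_mul]

end Groth.Agent.HM15
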